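import Mathlib
import Cfsg.Agent.H59.UniqueOrderP

/-!
# Non-abelian 2-groups with a unique involution, and central extensions of them

* `quaternion_structure_of_noncomm`: structure of a non-commutative finite `2`-group with
  exactly one element of order `2`.
* `quotient_facts`: for `N ≤ Z(S)` with `S ⧸ N` such a group, facts about `Z(S)` modulo `N`.
* `commutator_eq_zpowers_of_quotient`: in that situation the commutator subgroup of `S` is cyclic.
-/

set_option autoImplicit false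

namespace Cfsg.Agent.H59

universe u

section Structure

variable {Q : Type u} [Group Q]

/-- A unique element of order `2` gives a unique subgroup of order `2`. -/
theorem unique_subgroup_of_existsUnique (h : ∃! x : Q, orderOf x = 2) :
    ∀ H K : Subgroup Q, Nat.card H = 2 → Nat.card K = 2 → H = K := by
  obtain ⟨x0, hx0, huniq⟩ := h
  have key : ∀ H : Subgroup Q, Nat.card H = 2 → H = Subgroup.zpowers x0 := by
    intro H hH
    have hfin : Finite H := Nat.finite_of_card_ne_zero (by omega)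
    have hne : H ≠ ⊥ := by
      intro hbot
      rw [hbot, Subgroup.card_bot] at hH
      omega
    obtain ⟨⟨y, hyH⟩, hy1⟩ := Subgroup.ne_bot_iff_exists_ne_one.mp hne
    have hord : orderOf (⟨y, hyH⟩ : H) ∣ 2 := hH ▸ orderOf_dvd_natCard _
    rw [Subgroup.orderOf_mk] at hord
    have hy1' : y ≠ 1 := fun h => hy1 (Subtype.ext h)
    have hy2 : orderOf y = 2 := by
      rcases (Nat.dvd_prime Nat.prime_two).mp hord with h | h
      · exact absurd (orderOf_eq_one_iff.mp h) hy1'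
      · exact h
    have hyx : y = x0 := huniq y hy2
    have hle : Subgroup.zpowers x0 ≤ H := by
      rw [Subgroup.zpowers_le, ← hyx]; exact hyH
    exact (Subgroup.eq_of_le_of_card_ge hle (by rw [Nat.card_zpowers, hx0, hH])).symm
  intro H K hH hK
  rw [key H hH, key K hK]

/-- Structure of a non-commutative finite `2`-group with a unique element of order `2`. -/
theorem quaternion_structure_of_noncomm [Finite Q] (hQ : IsPGroup 2 Q)
    (hnc : ¬ IsMulCommutative Q) (hu : ∃! x : Q, orderOf x = 2) :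
    ∃ (a g : Q) (k : ℕ), 2 ≤ k ∧ orderOf a = 2 ^ k ∧ g ∉ Subgroup.zpowers a ∧
      g * a * g⁻¹ = a⁻¹ ∧ g * g = a ^ (2 ^ (k - 1)) ∧
      (∀ h : Q, h ∈ Subgroup.zpowers a ∨ g⁻¹ * h ∈ Subgroup.zpowers a) ∧
      (∀ h : Q, h ∉ Subgroup.zpowers a → h * a * h⁻¹ = a⁻¹ ∧ h * h = a ^ (2 ^ (k - 1))) ∧
      (∀ x : Q, x * x = 1 → x = 1 ∨ x = a ^ (2 ^ (k - 1))) ∧
      a ^ (2 ^ (k - 1)) ≠ 1 ∧ a * a ≠ 1 := by
  have huniq := unique_subgroup_of_existsUnique hu
  have hncyc : ¬ IsCyclic Q := fun hc => hnc inferInstance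
  obtain ⟨a, g, k, hk1, hk, hg, eg1, eg2, hcos, hout, hinv⟩ :=
    quaternion_structure_of_unique_two hQ huniq hncyc
  have hz1 : a ^ (2 ^ (k - 1)) ≠ 1 := by
    intro h2
    have h3 := orderOf_dvd_of_pow_eq_one h2
    rw [hk] at h3
    have h4 := Nat.le_of_dvd (by positivity) h3
    have h5 : 2 ^ (k - 1) < 2 ^ k := Nat.pow_lt_pow_right (by norm_num) (by omega)
    omega
  have hzz : a ^ (2 ^ (k - 1)) * a ^ (2 ^ (k - 1)) = 1 := by
    rw [← pow_add, ← two_mul, ← pow_succ', Nat.sub_add_cancel hk1, ← hk]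
    exact pow_orderOf_eq_one a
  have hzc := involution_central hz1 hzz hinv
  have haa : a * a ≠ 1 := by
    intro h
    apply hnc
    -- `a` is central
    have hac : ∀ x : Q, x * a = a * x := by
      intro x
      rcases hinv a h with h1 | h1
      · rw [h1, mul_one, one_mul]
      · rw [h1]; exact hzc x
    have hatc : ∀ (t : ℤ) (x : Q), x * a ^ t = a ^ t * x := fun t x =>
      ((Commute.zpow_right (hac x) t)).eq
    have hgc : ∀ x : Q, g * x = x * g := by
      intro x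
      rcases hcos x with hx | hx
      · obtain ⟨t, rfl⟩ := Subgroup.mem_zpowers_iff.mp hx
        exact hatc t g
      · obtain ⟨t, ht⟩ := Subgroup.mem_zpowers_iff.mp hx
        have hx' : x = g * a ^ t := by rw [ht, mul_inv_cancel_left]
        rw [hx', mul_assoc, ← hatc t g]
    rw [isMulCommutative_iff]
    intro x y
    rcases hcos x with hx | hx
    · obtain ⟨t, rfl⟩ := Subgroup.mem_zpowers_iff.mp hx
      exact (hatc t y).symm
    · obtain ⟨t, ht⟩ := Subgroup.mem_zpowers_iff.mp hx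
      have hx' : x = g * a ^ t := by rw [ht, mul_inv_cancel_left]
      rw [hx']
      calc g * a ^ t * y = g * (a ^ t * y) := by rw [mul_assoc]
        _ = g * (y * a ^ t) := by rw [hatc t y]
        _ = (g * y) * a ^ t := by rw [mul_assoc]
        _ = (y * g) * a ^ t := by rw [hgc y]
        _ = y * (g * a ^ t) := by rw [mul_assoc]
  have hk2 : 2 ≤ k := by
    by_contra hk2
    push Not at hk2
    apply haa
    have hd : orderOf a ∣ 2 := by
      rw [hk]
      calc 2 ^ k ∣ 2 ^ 1 := pow_dvd_pow 2 (by omega)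
        _ = 2 := by norm_num
    rw [← pow_two]; exact orderOf_dvd_iff_pow_eq_one.mp hd
  exact ⟨a, g, k, hk2, hk, hg, eg1, eg2, hcos, hout, hinv, hz1, haa⟩

end Structure

section Quotient

variable {S : Type u} [Group S] [Finite S]

/-- Facts about the centre of `S` modulo a central subgroup `N` with `S ⧸ N` non-commutative
with a unique involution. -/
theorem quotient_facts (hS : IsPGroup 2 S) (N : Subgroup S) [N.Normal]
    (hN : N ≤ Subgroup.center S) (hnc : ¬ IsMulCommutative (S ⧸ N))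
    (hu : ∃! x : S ⧸ N, orderOf x = 2)
    (z₀ : S) (hz₀ : z₀ ∈ Subgroup.center S) (hz₀N : z₀ ∉ N) :
    (∀ d ∈ Subgroup.center S, d * d ∈ N) ∧
    (∀ d ∈ Subgroup.center S, ∀ d' ∈ Subgroup.center S, d ∉ N → d' ∉ N → d⁻¹ * d' ∈ N) ∧
    (∀ x : S, x ∉ N → x * x ∈ N → x ∈ Subgroup.center S) := by
  obtain ⟨a, g, k, hk2, hk, hg, eg1, eg2, hcos, hout, hinv, hz1, haa⟩ :=
    quaternion_structure_of_noncomm (hS.to_quotient N) hnc hu
  -- central elements of the quotient square to `1`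
  have hcen : ∀ c : S ⧸ N, (∀ x, x * c = c * x) → c * c = 1 := by
    intro c hc
    by_cases hcA : c ∈ Subgroup.zpowers a
    · obtain ⟨t, rfl⟩ := Subgroup.mem_zpowers_iff.mp hcA
      have h1 : g * a ^ t * g⁻¹ = (a ^ t)⁻¹ := by
        rw [← conj_zpow, eg1, inv_zpow]
      have h2 : g * a ^ t * g⁻¹ = a ^ t := by
        rw [hc g, mul_inv_cancel_right]
      exact mul_eq_one_iff_eq_inv.mpr (h2.symm.trans h1)
    · exfalso
      obtain ⟨h1, -⟩ := hout c hcA
      have h2 : c * a * c⁻¹ = a := by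
        rw [← hc a, mul_inv_cancel_right]
      apply haa
      exact mul_eq_one_iff_eq_inv.mpr (h2.symm.trans h1)
  have hπcen : ∀ d ∈ Subgroup.center S, ∀ x : S ⧸ N, x * (QuotientGroup.mk' N d) =
      (QuotientGroup.mk' N d) * x := by
    intro d hd x
    obtain ⟨s, rfl⟩ := QuotientGroup.mk'_surjective N x
    rw [← map_mul, ← map_mul, Subgroup.mem_center_iff.mp hd s]
  have hker : ∀ x : S, QuotientGroup.mk' N x = 1 ↔ x ∈ N := fun x =>
    QuotientGroup.eq_one_iff x
  have hA : ∀ d ∈ Subgroup.center S, d * d ∈ N := by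
    intro d hd
    rw [← hker, map_mul]
    exact hcen _ (hπcen d hd)
  have hval : ∀ d ∈ Subgroup.center S, d ∉ N →
      QuotientGroup.mk' N d = a ^ (2 ^ (k - 1)) := by
    intro d hd hdN
    have h1 := hcen _ (hπcen d hd)
    rcases hinv _ h1 with h2 | h2
    · exact absurd ((hker d).mp h2) hdN
    · exact h2
  refine ⟨hA, ?_, ?_⟩
  · intro d hd d' hd' hdN hd'N
    rw [← hker, map_mul, map_inv, hval d hd hdN, hval d' hd' hd'N, inv_mul_cancel]
  · intro x hxN hxx
    have h1 : QuotientGroup.mk' N x * QuotientGroup.mk' N x = 1 := by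
      rw [← map_mul]; exact (hker _).mpr hxx
    have h2 : QuotientGroup.mk' N x = a ^ (2 ^ (k - 1)) := by
      rcases hinv _ h1 with h2 | h2
      · exact absurd ((hker x).mp h2) hxN
      · exact h2
    have h3 : x * z₀⁻¹ ∈ N := by
      rw [← hker, map_mul, map_inv, h2, hval z₀ hz₀ hz₀N, mul_inv_cancel]
    have h4 : x = (x * z₀⁻¹) * z₀ := by group
    rw [h4]
    exact mul_mem (hN h3) hz₀

end Quotient

section Commutator

open scoped commutatorElement

variable {S : Type u} [Group S] [Finite S]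

/-- If `N ≤ Z(S)` and `S ⧸ N` is non-commutative with a unique involution, then the
commutator subgroup of `S` is cyclic (and nontrivial). -/
theorem commutator_eq_zpowers_of_quotient (hS : IsPGroup 2 S) (N : Subgroup S) [N.Normal]
    (hN : N ≤ Subgroup.center S) (hnc : ¬ IsMulCommutative (S ⧸ N))
    (hu : ∃! x : S ⧸ N, orderOf x = 2) :
    ∃ c : S, c ≠ 1 ∧ ⁅(⊤ : Subgroup S), ⊤⁆ = Subgroup.zpowers c := by
  obtain ⟨abar, gbar, k, hk2, hk, hg, eg1, eg2, hcos, hout, hinv, hz1, haa⟩ :=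
    quaternion_structure_of_noncomm (hS.to_quotient N) hnc hu
  obtain ⟨a, rfl⟩ := QuotientGroup.mk'_surjective N abar
  obtain ⟨g, rfl⟩ := QuotientGroup.mk'_surjective N gbar
  have hker : ∀ x : S, QuotientGroup.mk' N x = 1 ↔ x ∈ N := fun x =>
    QuotientGroup.eq_one_iff x
  have he₀N : g * a * g⁻¹ * a ∈ N := by
    rw [← hker, map_mul, map_mul, map_mul, map_inv, eg1, inv_mul_cancel]
  obtain ⟨e₀, he₀⟩ : ∃ e₀ : S, e₀ = g * a * g⁻¹ * a := ⟨_, rfl⟩
  rw [← he₀] at he₀N
  have he₀c : ∀ s : S, s * e₀ = e₀ * s := fun s => Subgroup.mem_center_iff.mp (hN he₀N) s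
  obtain ⟨c, hc⟩ : ∃ c : S, c = g * a * g⁻¹ * a⁻¹ := ⟨_, rfl⟩
  have hcu : g * a * g⁻¹ = e₀ * a⁻¹ := by rw [he₀]; group
  have hce : c = e₀ * a⁻¹ * a⁻¹ := by rw [hc, hcu]
  have hac : a * c = c * a := by
    rw [hce]
    calc a * (e₀ * a⁻¹ * a⁻¹) = (a * e₀) * a⁻¹ * a⁻¹ := by simp only [mul_assoc]
      _ = (e₀ * a) * a⁻¹ * a⁻¹ := by rw [he₀c a]
      _ = e₀ * a⁻¹ * a⁻¹ * a := by group
  have hgc : g * c * g⁻¹ = c⁻¹ := by
    calc g * c * g⁻¹ = (g * e₀ * g⁻¹) * (g * a * g⁻¹)⁻¹ * (g * a * g⁻¹)⁻¹ := by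
          rw [hce]; group
      _ = e₀ * (e₀ * a⁻¹)⁻¹ * (e₀ * a⁻¹)⁻¹ := by rw [hcu, he₀c g, mul_inv_cancel_right]
      _ = (e₀ * a) * e₀⁻¹ * (a * e₀⁻¹) := by group
      _ = (a * e₀) * e₀⁻¹ * (a * e₀⁻¹) := by rw [he₀c a]
      _ = c⁻¹ := by
        rw [hce, mul_inv_cancel_right]
        simp only [mul_inv_rev, inv_inv, mul_assoc]
  have hnf : ∀ s : S, ∃ t : ℤ, ∃ e ∈ N, s = a ^ t * e ∨ s = g * (a ^ t * e) := by
    intro s
    rcases hcos (QuotientGroup.mk' N s) with h | h
    · obtain ⟨t, ht⟩ := Subgroup.mem_zpowers_iff.mp h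
      refine ⟨t, (a ^ t)⁻¹ * s, ?_, Or.inl (by group)⟩
      rw [← hker, map_mul, map_inv, map_zpow, ht, inv_mul_cancel]
    · obtain ⟨t, ht⟩ := Subgroup.mem_zpowers_iff.mp h
      refine ⟨t, (a ^ t)⁻¹ * (g⁻¹ * s), ?_, Or.inr (by group)⟩
      rw [← hker, map_mul, map_inv, map_zpow, map_mul, map_inv, ht, inv_mul_cancel]
  have hconjc : ∀ s : S, s * c * s⁻¹ = c ∨ s * c * s⁻¹ = c⁻¹ := by
    intro s
    obtain ⟨t, e, he, hs | hs⟩ := hnf s
    · left
      have hm : Commute (a ^ t * e) c :=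
        (Commute.zpow_left hac t).mul_left
          (show Commute e c from (Subgroup.mem_center_iff.mp (hN he) c).symm)
      rw [hs]
      exact mul_inv_eq_iff_eq_mul.mpr hm.eq
    · right
      have hm : Commute (a ^ t * e) c :=
        (Commute.zpow_left hac t).mul_left
          (show Commute e c from (Subgroup.mem_center_iff.mp (hN he) c).symm)
      have h1 : (a ^ t * e) * c * (a ^ t * e)⁻¹ = c := mul_inv_eq_iff_eq_mul.mpr hm.eq
      have h2 : s * c * s⁻¹ = g * ((a ^ t * e) * c * (a ^ t * e)⁻¹) * g⁻¹ := by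
        rw [hs]; group
      rw [h2, h1, hgc]
  have hKnorm : ∀ (s : S) (x : S), x ∈ Subgroup.zpowers c → s * x * s⁻¹ ∈ Subgroup.zpowers c := by
    intro s x hx
    obtain ⟨j, rfl⟩ := Subgroup.mem_zpowers_iff.mp hx
    rw [← conj_zpow]
    rcases hconjc s with h | h <;> rw [h]
    · exact Subgroup.zpow_mem_zpowers c j
    · exact zpow_mem (inv_mem (Subgroup.mem_zpowers c)) j
  let P : S → Subgroup S := fun z =>
    { carrier := {x | x * z * x⁻¹ * z⁻¹ ∈ Subgroup.zpowers c}
      one_mem' := by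
        show (1:S) * z * (1:S)⁻¹ * z⁻¹ ∈ Subgroup.zpowers c
        have e1 : (1:S) * z * (1:S)⁻¹ * z⁻¹ = 1 := by group
        rw [e1]; exact one_mem _
      mul_mem' := by
        intro x y hx hy
        show (x * y) * z * (x * y)⁻¹ * z⁻¹ ∈ Subgroup.zpowers c
        have e1 : (x * y) * z * (x * y)⁻¹ * z⁻¹ =
            x * (y * z * y⁻¹ * z⁻¹) * x⁻¹ * (x * z * x⁻¹ * z⁻¹) := by group
        rw [e1]
        exact mul_mem (hKnorm x _ hy) hx
      inv_mem' := by
        intro x hx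
        show x⁻¹ * z * x⁻¹⁻¹ * z⁻¹ ∈ Subgroup.zpowers c
        have e1 : x⁻¹ * z * x⁻¹⁻¹ * z⁻¹ = x⁻¹ * (x * z * x⁻¹ * z⁻¹)⁻¹ * x⁻¹⁻¹ := by group
        rw [e1]
        exact hKnorm x⁻¹ _ (inv_mem hx) }
  have hPmem : ∀ x z, x ∈ P z ↔ x * z * x⁻¹ * z⁻¹ ∈ Subgroup.zpowers c := fun x z => Iff.rfl
  have hall : ∀ z, a ∈ P z → g ∈ P z → (∀ e ∈ N, e ∈ P z) → ∀ x, x ∈ P z := by
    intro z ha hg he x
    obtain ⟨t, e, heN, hx | hx⟩ := hnf x
    · rw [hx]; exact mul_mem (zpow_mem ha t) (he e heN)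
    · rw [hx]; exact mul_mem hg (mul_mem (zpow_mem ha t) (he e heN))
  have hsymm : ∀ x z, x ∈ P z → z ∈ P x := by
    intro x z h
    rw [hPmem] at h ⊢
    have e1 : z * x * z⁻¹ * x⁻¹ = (x * z * x⁻¹ * z⁻¹)⁻¹ := by group
    rw [e1]; exact inv_mem h
  have hcentral : ∀ e ∈ N, ∀ x, x ∈ P e := by
    intro e he x
    rw [hPmem]
    have h1 : x * e = e * x := Subgroup.mem_center_iff.mp (hN he) x
    have e1 : x * e * x⁻¹ * e⁻¹ = 1 := by rw [h1]; group
    rw [e1]; exact one_mem _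
  have step1 : ∀ x, x ∈ P a := by
    apply hall
    · rw [hPmem]
      have e1 : a * a * a⁻¹ * a⁻¹ = 1 := by group
      rw [e1]; exact one_mem _
    · rw [hPmem, ← hc]; exact Subgroup.mem_zpowers c
    · intro e he; exact hsymm _ _ (hcentral e he a)
  have step2 : ∀ x, x ∈ P g := by
    apply hall
    · exact hsymm _ _ (step1 g)
    · rw [hPmem]
      have e1 : g * g * g⁻¹ * g⁻¹ = 1 := by group
      rw [e1]; exact one_mem _
    · intro e he; exact hsymm _ _ (hcentral e he g)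
  have hfinal : ∀ x z, x ∈ P z := by
    intro x z
    apply hsymm
    exact hall x (hsymm _ _ (step1 x)) (hsymm _ _ (step2 x))
      (fun e he => hsymm _ _ (hcentral e he x)) z
  refine ⟨c, ?_, ?_⟩
  · intro hc1
    apply haa
    have h1 : g * a * g⁻¹ = a := by
      have e1 : g * a * g⁻¹ = (g * a * g⁻¹ * a⁻¹) * a := by group
      rw [e1, ← hc, hc1, one_mul]
    have h2 : QuotientGroup.mk' N a = (QuotientGroup.mk' N a)⁻¹ := by
      rw [← eg1, ← map_inv, ← map_mul, ← map_mul, h1]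
    exact mul_eq_one_iff_eq_inv.mpr h2
  · apply le_antisymm
    · rw [Subgroup.commutator_le]
      intro x _ z _
      rw [commutatorElement_def]
      exact (hPmem x z).mp (hfinal x z)
    · rw [Subgroup.zpowers_le]
      have e1 : c = ⁅g, a⁆ := by rw [commutatorElement_def, hc]
      rw [e1]
      exact Subgroup.commutator_mem_commutator (Subgroup.mem_top g) (Subgroup.mem_top a)

end Commutator

end Cfsg.Agent.H59
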