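import Mathlib
import Cfsg.Agent.H59.UniqueOrderP

/-!
# 2-groups with a cyclic subgroup `⟨a⟩` normalized by `b` with `b² ∈ ⟨a⟩`

`cyclic_max_classification`: dihedral / quaternion / modular / semidihedral relations.
-/

set_option autoImplicit false

namespace Cfsg.Agent.H59

universe u

section CyclicMax

variable {G : Type u} [Group G]

/-- The unique involution of a cyclic `2`-group. -/
theorem eq_one_or_eq_of_sq_mem_zpowers {a : G} {k : ℕ} (hk1 : 1 ≤ k) (hk : orderOf a = 2 ^ k)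
    {x : G} (hx : x ∈ Subgroup.zpowers a) (hxx : x * x = 1) :
    x = 1 ∨ x = a ^ (2 ^ (k - 1)) := by
  obtain ⟨j, rfl⟩ := Subgroup.mem_zpowers_iff.mp hx
  have h1 : a ^ (2 * j) = 1 := by rw [two_mul, zpow_add]; exact hxx
  have h2 := orderOf_dvd_iff_zpow_eq_one.mpr h1
  rw [hk] at h2
  have hk' : k = (k - 1) + 1 := by omega
  have h3 : (2:ℤ) ^ (k - 1) ∣ j := by
    have e : ((2 ^ k : ℕ) : ℤ) = 2 * 2 ^ (k - 1) := by
      push_cast
      conv_lhs => rw [hk', pow_succ']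
    rw [e] at h2
    exact (mul_dvd_mul_iff_left (by norm_num : (2:ℤ) ≠ 0)).mp h2
  obtain ⟨u, rfl⟩ := h3
  have hzz : a ^ (2 ^ (k - 1)) * a ^ (2 ^ (k - 1)) = 1 := by
    rw [← pow_add, ← two_mul, ← pow_succ', ← hk', ← hk]
    exact pow_orderOf_eq_one a
  have e2 : a ^ ((2:ℤ) ^ (k - 1) * u) = (a ^ (2 ^ (k - 1))) ^ u := by
    rw [zpow_mul]
    congr 1
    exact_mod_cast zpow_natCast a (2 ^ (k - 1))
  rw [e2]
  exact zpow_involution hzz u

/-- If `g` commutes with `a` and `G = ⟨a⟩ ∪ g⟨a⟩` then `G` is commutative. -/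
theorem comm_of_coset {a g : G}
    (hcos : ∀ h : G, h ∈ Subgroup.zpowers a ∨ g⁻¹ * h ∈ Subgroup.zpowers a)
    (hga : g * a = a * g) : ∀ x y : G, x * y = y * x := by
  have hac : ∀ x : G, x * a = a * x := by
    intro x
    rcases hcos x with hx | hx
    · obtain ⟨t, rfl⟩ := Subgroup.mem_zpowers_iff.mp hx
      exact ((Commute.refl a).zpow_left t).eq
    · obtain ⟨t, ht⟩ := Subgroup.mem_zpowers_iff.mp hx
      have hx' : x = g * a ^ t := by rw [ht, mul_inv_cancel_left]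
      rw [hx', mul_assoc, ((Commute.refl a).zpow_left t).eq, ← mul_assoc, hga, mul_assoc]
  have hatc : ∀ (t : ℤ) (x : G), x * a ^ t = a ^ t * x := fun t x =>
    ((Commute.zpow_right (hac x) t)).eq
  have hgc : ∀ x : G, g * x = x * g := by
    intro x
    rcases hcos x with hx | hx
    · obtain ⟨t, rfl⟩ := Subgroup.mem_zpowers_iff.mp hx
      exact hatc t g
    · obtain ⟨t, ht⟩ := Subgroup.mem_zpowers_iff.mp hx
      have hx' : x = g * a ^ t := by rw [ht, mul_inv_cancel_left]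
      rw [hx', mul_assoc, ← hatc t g]
  intro x y
  rcases hcos x with hx | hx
  · obtain ⟨t, rfl⟩ := Subgroup.mem_zpowers_iff.mp hx
    exact (hatc t y).symm
  · obtain ⟨t, ht⟩ := Subgroup.mem_zpowers_iff.mp hx
    have hx' : x = g * a ^ t := by rw [ht, mul_inv_cancel_left]
    rw [hx']
    calc g * a ^ t * y = g * (a ^ t * y) := by rw [mul_assoc]
      _ = g * (y * a ^ t) := by rw [hatc t y]
      _ = (g * y) * a ^ t := by rw [mul_assoc]
      _ = (y * g) * a ^ t := by rw [hgc y]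
      _ = y * (g * a ^ t) := by rw [mul_assoc]

/-- Modular case: `b₀ a b₀⁻¹ = a z`; some `b ∈ b₀⟨a⟩` is an involution. -/
theorem exists_involution_of_conj_mul_z {z : G} (hz1 : z ≠ 1) (hzz : z * z = 1)
    (a b : G) (k : ℕ) (hk3 : 3 ≤ k) (hza : a ^ (2 ^ (k - 1)) = z)
    (hb2 : b * b ∈ Subgroup.zpowers a) (hbab : b * a * b⁻¹ = a * z) :
    ∃ b' : G, b⁻¹ * b' ∈ Subgroup.zpowers a ∧ b' * b' = 1 := by
  have hzcp : ∀ t : ℤ, a ^ t * z = z * a ^ t := by
    intro t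
    rw [← hza]
    exact ((Commute.refl a).zpow_left t).pow_right _ |>.eq
  obtain ⟨j, hj⟩ := Subgroup.mem_zpowers_iff.mp hb2
  have haz : Commute a z := by
    have := hzcp 1
    rwa [zpow_one] at this
  have h1 : b * (b * b) * b⁻¹ = b * b := by group
  have h2 : b * (b * b) * b⁻¹ = a ^ j * z ^ j := by
    rw [← hj, ← conj_zpow, hbab, haz.mul_zpow]
  have h3 : z ^ j = 1 := by
    have : a ^ j * z ^ j = a ^ j * 1 := by rw [mul_one, ← h2, h1, hj]
    exact mul_left_cancel this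
  obtain ⟨j', rfl | rfl⟩ := Int.even_or_odd' j
  swap
  · rw [zpow_add, zpow_mul, zpow_two, hzz, one_zpow, one_mul, zpow_one] at h3
    exact absurd h3 hz1
  have hcac : (b * a ^ (-j')) * a * (b * a ^ (-j'))⁻¹ = a * z := by
    rw [← hbab]; group
  have hcc : (b * a ^ (-j')) * (b * a ^ (-j')) =
      a ^ (-j') * z ^ (-j') * a ^ (2 * j') * a ^ (-j') := by
    have e : (b * a ^ (-j')) * (b * a ^ (-j')) =
        (b * a ^ (-j') * b⁻¹) * (b * b) * a ^ (-j') := by group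
    rw [e, ← conj_zpow, hbab, haz.mul_zpow, ← hj]
  rcases zpow_involution hzz (-j') with h4 | h4
  · rw [h4] at hcc
    refine ⟨b * a ^ (-j'), ?_, ?_⟩
    · rw [inv_mul_cancel_left]; exact Subgroup.zpow_mem_zpowers a _
    · rw [hcc]; group
  · rw [h4] at hcc
    have hccz : (b * a ^ (-j')) * (b * a ^ (-j')) = z := by
      rw [hcc, hzcp (-j')]
      have e : z * a ^ (-j') * a ^ (2 * j') * a ^ (-j') = z := by group
      exact e
    have hqq : 2 ^ (k - 2) + 2 ^ (k - 2) = 2 ^ (k - 1) := by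
      rw [← two_mul, ← pow_succ']
      congr 1; omega
    have hzq : z ^ (2 ^ (k - 2)) = 1 := by
      have e : 2 ^ (k - 2) = 2 * 2 ^ (k - 3) := by
        rw [← pow_succ']; congr 1; omega
      rw [e, pow_mul, pow_two, hzz, one_pow]
    refine ⟨(b * a ^ (-j')) * a ^ (2 ^ (k - 2)), ?_, ?_⟩
    · have e : b⁻¹ * (b * a ^ (-j') * a ^ (2 ^ (k - 2))) = a ^ (-j') * a ^ (2 ^ (k - 2)) := by
        group
      rw [e]
      exact mul_mem (Subgroup.zpow_mem_zpowers a _) (Subgroup.npow_mem_zpowers a _)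
    · have e : (b * a ^ (-j')) * a ^ (2 ^ (k - 2)) * ((b * a ^ (-j')) * a ^ (2 ^ (k - 2))) =
          ((b * a ^ (-j')) * a ^ (2 ^ (k - 2)) * (b * a ^ (-j'))⁻¹) *
            ((b * a ^ (-j')) * (b * a ^ (-j'))) * a ^ (2 ^ (k - 2)) := by group
      have e2 : (b * a ^ (-j')) * a ^ (2 ^ (k - 2)) * (b * a ^ (-j'))⁻¹ =
          ((b * a ^ (-j')) * a * (b * a ^ (-j'))⁻¹) ^ (2 ^ (k - 2)) := (conj_pow).symm
      have hzcq : a ^ (2 ^ (k - 2)) * z = z * a ^ (2 ^ (k - 2)) := by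
        have := hzcp ((2 ^ (k - 2) : ℕ) : ℤ)
        rwa [zpow_natCast] at this
      rw [e, e2, hcac, haz.mul_pow, hzq, mul_one, hccz, mul_assoc, ← hzcq,
        ← mul_assoc, ← pow_add, hqq, hza, hzz]

/-- Semidihedral case: `b₀ a b₀⁻¹ = a⁻¹ z`; some `b ∈ b₀⟨a⟩` is an involution. -/
theorem exists_involution_of_conj_inv_mul_z {z : G} (hzz : z * z = 1)
    (a b : G) (k : ℕ) (hk3 : 3 ≤ k)
    (hk : orderOf a = 2 ^ k) (hza : a ^ (2 ^ (k - 1)) = z)
    (hb2 : b * b ∈ Subgroup.zpowers a) (hbab : b * a * b⁻¹ = a⁻¹ * z) :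
    ∃ b' : G, b⁻¹ * b' ∈ Subgroup.zpowers a ∧ b' * b' = 1 := by
  have hzcp : ∀ t : ℤ, a ^ t * z = z * a ^ t := by
    intro t
    rw [← hza]
    exact ((Commute.refl a).zpow_left t).pow_right _ |>.eq
  obtain ⟨j, hj⟩ := Subgroup.mem_zpowers_iff.mp hb2
  have haz : Commute a⁻¹ z := by
    have := hzcp (-1)
    rwa [zpow_neg, zpow_one] at this
  have h1 : b * (b * b) * b⁻¹ = b * b := by group
  have h2 : b * (b * b) * b⁻¹ = (a ^ j)⁻¹ * z ^ j := by
    rw [← hj, ← conj_zpow, hbab, haz.mul_zpow, inv_zpow]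
  have h3 : a ^ j = (a ^ j)⁻¹ * z ^ j := by rw [← h2, h1, hj]
  have hbb : (b * b) * (b * b) = 1 := by
    obtain ⟨i, rfl | rfl⟩ := Int.even_or_odd' j
    · have hz2i : z ^ (2 * i) = 1 := by rw [zpow_mul, zpow_two, hzz, one_zpow]
      rw [hz2i, mul_one] at h3
      rw [← hj]
      exact mul_eq_one_iff_eq_inv.mpr h3
    · exfalso
      have hz2i : z ^ (2 * i + 1) = z := by
        rw [zpow_add, zpow_mul, zpow_two, hzz, one_zpow, one_mul, zpow_one]
      rw [hz2i] at h3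
      have h4 : a ^ (2 * i + 1) * a ^ (2 * i + 1) = z := by
        have e : a ^ (2 * i + 1) * a ^ (2 * i + 1) =
            a ^ (2 * i + 1) * ((a ^ (2 * i + 1))⁻¹ * z) := by rw [← h3]
        rw [e, mul_inv_cancel_left]
      have h5 : a ^ (4 * (2 * i + 1)) = 1 := by
        have e : a ^ (4 * (2 * i + 1)) =
            (a ^ (2 * i + 1) * a ^ (2 * i + 1)) * (a ^ (2 * i + 1) * a ^ (2 * i + 1)) := by
          rw [← zpow_add, ← zpow_add]; congr 1; ring
        rw [e, h4, hzz]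
      have h6 := orderOf_dvd_iff_zpow_eq_one.mpr h5
      rw [hk] at h6
      have h7 : ((2 ^ 3 : ℕ) : ℤ) ∣ ((2 ^ k : ℕ) : ℤ) :=
        Int.natCast_dvd_natCast.mpr (pow_dvd_pow 2 hk3)
      have h8 := dvd_trans h7 h6
      norm_num at h8
      omega
  rcases eq_one_or_eq_of_sq_mem_zpowers (by omega) hk hb2 hbb with h4 | h4
  · exact ⟨b, by rw [inv_mul_cancel]; exact one_mem _, h4⟩
  · rw [hza] at h4
    refine ⟨b * a, ?_, ?_⟩
    · rw [inv_mul_cancel_left]; exact Subgroup.mem_zpowers a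
    · have e : (b * a) * (b * a) = (b * a * b⁻¹) * (b * b) * a := by group
      rw [e, hbab, h4, mul_assoc a⁻¹ z z, hzz, mul_one, inv_mul_cancel]

/-- Classification of the action of `b` on the cyclic `2`-group `⟨a⟩` with `b² ∈ ⟨a⟩`. -/
theorem cyclic_max_classification (k : ℕ) (hk2 : 2 ≤ k) (a b₀ : G) (hk : orderOf a = 2 ^ k)
    (hb2 : b₀ * b₀ ∈ Subgroup.zpowers a)
    (hconj : b₀ * a * b₀⁻¹ ∈ Subgroup.zpowers a) (hnc : b₀ * a ≠ a * b₀) :
    ∃ b : G, b₀⁻¹ * b ∈ Subgroup.zpowers a ∧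
      ((b * b = 1 ∧ b * a * b⁻¹ = a⁻¹) ∨
       (b * b = a ^ (2 ^ (k - 1)) ∧ b * a * b⁻¹ = a⁻¹) ∨
       (3 ≤ k ∧ b * b = 1 ∧ b * a * b⁻¹ = a * a ^ (2 ^ (k - 1))) ∨
       (3 ≤ k ∧ b * b = 1 ∧ b * a * b⁻¹ = a⁻¹ * a ^ (2 ^ (k - 1)))) := by
  obtain ⟨z, hza⟩ : ∃ z : G, a ^ (2 ^ (k - 1)) = z := ⟨_, rfl⟩
  rw [hza]
  have hzz : z * z = 1 := by
    rw [← hza, ← pow_add, ← two_mul, ← pow_succ', Nat.sub_add_cancel (by omega), ← hk]
    exact pow_orderOf_eq_one a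
  have hz1 : z ≠ 1 := by
    intro h2
    rw [← hza] at h2
    have h3 := orderOf_dvd_of_pow_eq_one h2
    rw [hk] at h3
    have h4 := Nat.le_of_dvd (by positivity) h3
    have h5 : 2 ^ (k - 1) < 2 ^ k := Nat.pow_lt_pow_right (by norm_num) (by omega)
    omega
  have hk3 : a * a ≠ z → 3 ≤ k := by
    intro h
    by_contra hcon
    push Not at hcon
    have hk2' : k = 2 := by omega
    apply h
    rw [hk2'] at hza
    rw [← hza]; norm_num; exact (pow_two a).symm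
  -- conjugates of an element `b₀ a^s`
  have hself : b₀⁻¹ * b₀ ∈ Subgroup.zpowers a := by rw [inv_mul_cancel]; exact one_mem _
  -- inversion case
  have hinvcase : b₀ * a * b₀⁻¹ = a⁻¹ → ∃ b : G, b₀⁻¹ * b ∈ Subgroup.zpowers a ∧
      ((b * b = 1 ∧ b * a * b⁻¹ = a⁻¹) ∨
       (b * b = z ∧ b * a * b⁻¹ = a⁻¹) ∨
       (3 ≤ k ∧ b * b = 1 ∧ b * a * b⁻¹ = a * z) ∨
       (3 ≤ k ∧ b * b = 1 ∧ b * a * b⁻¹ = a⁻¹ * z)) := by
    intro hbab
    obtain ⟨j, hj⟩ := Subgroup.mem_zpowers_iff.mp hb2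
    have h1 : b₀ * (b₀ * b₀) * b₀⁻¹ = b₀ * b₀ := by group
    have h2 : b₀ * (b₀ * b₀) * b₀⁻¹ = (b₀ * b₀)⁻¹ := by
      rw [← hj, ← conj_zpow, hbab, inv_zpow]
    have h3 : (b₀ * b₀) * (b₀ * b₀) = 1 := mul_eq_one_iff_eq_inv.mpr (h1.symm.trans h2)
    rcases eq_one_or_eq_of_sq_mem_zpowers (by omega) hk hb2 h3 with h4 | h4
    · exact ⟨b₀, hself, Or.inl ⟨h4, hbab⟩⟩
    · rw [hza] at h4
      exact ⟨b₀, hself, Or.inr (Or.inl ⟨h4, hbab⟩)⟩
  obtain ⟨r, hr⟩ := Subgroup.mem_zpowers_iff.mp hconj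
  obtain ⟨j, hj⟩ := Subgroup.mem_zpowers_iff.mp hb2
  have hbba : (b₀ * b₀) * a * (b₀ * b₀)⁻¹ = a := by
    rw [← hj]; group
  have hrr : a ^ (r * r) = a := by
    have h1 : (b₀ * b₀) * a * (b₀ * b₀)⁻¹ = b₀ * (b₀ * a * b₀⁻¹) * b₀⁻¹ := by group
    rw [hbba, ← hr, ← conj_zpow, ← hr, ← zpow_mul] at h1
    exact h1.symm
  have hdvd : (2:ℤ) ^ k ∣ r * r - 1 := by
    have h1 : a ^ (r * r - 1) = 1 := by rw [zpow_sub, hrr, zpow_one, mul_inv_cancel]
    have h2 := orderOf_dvd_iff_zpow_eq_one.mpr h1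
    rw [hk] at h2
    exact_mod_cast h2
  have hconjb : ∀ b : G, b₀⁻¹ * b ∈ Subgroup.zpowers a → b * a * b⁻¹ = b₀ * a * b₀⁻¹ := by
    intro b hb
    obtain ⟨s, hs⟩ := Subgroup.mem_zpowers_iff.mp hb
    have e : b = b₀ * a ^ s := by rw [hs, mul_inv_cancel_left]
    rw [e]; group
  rcases two_pow_dvd_sub_or_add k hk2 r hdvd with ⟨t, ht⟩ | ⟨t, ht⟩
  · have h1 : a ^ r = a * z ^ t := by
      have e : r = 1 + ((2 ^ (k - 1) : ℕ) : ℤ) * t := by push_cast; linarith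
      rw [e, zpow_add, zpow_one, zpow_mul, zpow_natCast, hza]
    rcases zpow_involution hzz t with h2 | h2
    · exfalso; apply hnc
      rw [h1, h2, mul_one] at hr
      have e : b₀ * a = (b₀ * a * b₀⁻¹) * b₀ := by group
      rw [e, ← hr]
    · rw [h1, h2] at hr
      by_cases h3 : a * z = a⁻¹
      · rw [h3] at hr
        exact hinvcase hr.symm
      · have h4 : a * a ≠ z := by
          intro h4
          apply h3
          rw [← h4]
          have e : a * (a * a) * a = (a * a) * (a * a) := by group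
          have e2 : a * (a * a) * a = 1 := by rw [e, h4, hzz]
          exact eq_inv_of_mul_eq_one_left e2
        obtain ⟨b, hb, hbb⟩ :=
          exists_involution_of_conj_mul_z hz1 hzz a b₀ k (hk3 h4) hza hb2 hr.symm
        exact ⟨b, hb, Or.inr (Or.inr (Or.inl ⟨hk3 h4, hbb, by rw [hconjb b hb, ← hr]⟩))⟩
  · have h1 : a ^ r = a⁻¹ * z ^ t := by
      have e : r = -1 + ((2 ^ (k - 1) : ℕ) : ℤ) * t := by push_cast; linarith
      rw [e, zpow_add, zpow_neg, zpow_one, zpow_mul, zpow_natCast, hza]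
    rcases zpow_involution hzz t with h2 | h2
    · rw [h1, h2, mul_one] at hr
      exact hinvcase hr.symm
    · rw [h1, h2] at hr
      by_cases h3 : a⁻¹ * z = a
      · exfalso
        apply hnc
        rw [h3] at hr
        have e : b₀ * a = (b₀ * a * b₀⁻¹) * b₀ := by group
        rw [e, ← hr]
      · have h4 : a * a ≠ z := by
          intro h4
          apply h3
          rw [← h4]; group
        obtain ⟨b, hb, hbb⟩ :=
          exists_involution_of_conj_inv_mul_z hzz a b₀ k (hk3 h4) hk hza hb2 hr.symm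
        exact ⟨b, hb, Or.inr (Or.inr (Or.inr ⟨hk3 h4, hbb, by rw [hconjb b hb, ← hr]⟩))⟩

end CyclicMax

end Cfsg.Agent.H59
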