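import Cfsg.Agent.H59.PermDiff

set_option autoImplicit false
set_option linter.unusedSectionVars false
set_option linter.style.haveILetI false

/-! The affine group `x ↦ u x + t` of the line over a field `F`; it is `2`-transitive on `F`, so a
finite one has an irreducible character of degree `|F| - 1`.  For `|F| = 8` this gives a solvable
group of order `56` with an irreducible character of degree `7`. -/

namespace Cfsg.Agent.H59.AffLine

open Cfsg Cfsg.Agent.H4

/-- the affine group of the line: the maps `x ↦ u * x + t` -/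
@[ext] structure Aff1 (F : Type) [Field F] where
  t : F
  u : Fˣ

variable {F : Type} [Field F]

instance : Mul (Aff1 F) := ⟨fun x y => ⟨x.t + x.u * y.t, x.u * y.u⟩⟩
instance : One (Aff1 F) := ⟨⟨0, 1⟩⟩
instance : Inv (Aff1 F) := ⟨fun x => ⟨-(((x.u⁻¹ : Fˣ) : F) * x.t), x.u⁻¹⟩⟩

@[simp] theorem mul_t (x y : Aff1 F) : (x * y).t = x.t + x.u * y.t := rfl
@[simp] theorem mul_u (x y : Aff1 F) : (x * y).u = x.u * y.u := rfl
@[simp] theorem one_t : (1 : Aff1 F).t = 0 := rfl
@[simp] theorem one_u : (1 : Aff1 F).u = 1 := rfl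
@[simp] theorem inv_t (x : Aff1 F) : (x⁻¹).t = -(((x.u⁻¹ : Fˣ) : F) * x.t) := rfl
@[simp] theorem inv_u (x : Aff1 F) : (x⁻¹).u = x.u⁻¹ := rfl

instance : Group (Aff1 F) where
  mul_assoc x y z := by
    ext
    · simp only [mul_t, mul_u, Units.val_mul]; ring
    · simp only [mul_u, mul_assoc]
  one_mul x := by
    ext
    · simp
    · simp
  mul_one x := by
    ext
    · simp
    · simp
  inv_mul_cancel x := by
    ext
    · simp
    · simp

instance : MulAction (Aff1 F) F where
  smul x a := x.t + x.u * a
  one_smul a := by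
    show (1 : Aff1 F).t + ((1 : Aff1 F).u : F) * a = a
    simp
  mul_smul x y a := by
    show (x * y).t + ((x * y).u : F) * a = x.t + x.u * (y.t + y.u * a)
    simp only [mul_t, mul_u, Units.val_mul]; ring

theorem smul_def (x : Aff1 F) (a : F) : x • a = x.t + x.u * a := rfl

theorem two_transitive : MulAction.IsMultiplyPretransitive (Aff1 F) F 2 := by
  rw [MulAction.is_two_pretransitive_iff]
  intro a b c d hab hcd
  have h1 : a - b ≠ 0 := sub_ne_zero.mpr hab
  have h2 : c - d ≠ 0 := sub_ne_zero.mpr hcd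
  have h3 : (c - d) / (a - b) ≠ 0 := div_ne_zero h2 h1
  refine ⟨⟨c - (c - d) / (a - b) * a, Units.mk0 _ h3⟩, ?_, ?_⟩
  · rw [smul_def]; simp
  · rw [smul_def]
    simp only [Units.val_mk0]
    field_simp
    ring

instance : MulAction.IsPretransitive (Aff1 F) F := by
  constructor
  intro a b
  refine ⟨⟨b - a, 1⟩, ?_⟩
  rw [smul_def]; simp

/-- `Aff1 F ≃ F × Fˣ` -/
def equivProd : Aff1 F ≃ F × Fˣ where
  toFun x := (x.t, x.u)
  invFun p := ⟨p.1, p.2⟩
  left_inv x := by cases x; rfl
  right_inv p := by cases p; rfl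

instance [Finite F] : Finite (Aff1 F) := Finite.of_equiv _ equivProd.symm

theorem card_aff [Finite F] : Nat.card (Aff1 F) = Nat.card F * (Nat.card F - 1) := by
  rw [Nat.card_congr equivProd, Nat.card_prod, Nat.card_units]

/-- A solvable group of order `56` with an irreducible character of degree `7`. -/
theorem solvA : ∃ (A : Type) (_ : Group A) (_ : Fintype A), Group.IsSolvable A ∧ Nat.card A = 56 ∧
    7 ∈ Cfsg.charDegrees A := by
  classical
  have hF : Nat.card (GaloisField 2 3) = 8 := by
    rw [GaloisField.card 2 3 (by norm_num)]; norm_num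
  haveI : Finite (GaloisField 2 3) := Nat.finite_of_card_ne_zero (by rw [hF]; norm_num)
  have hcard : Nat.card (Aff1 (GaloisField 2 3)) = 56 := by rw [card_aff, hF]
  refine ⟨Aff1 (GaloisField 2 3), inferInstance, Fintype.ofFinite _, ?_, hcard, ?_⟩
  · exact isSolvable_of_card_eq_prime_pow_mul_prime_pow 2 7 3 1 Nat.prime_two (by norm_num)
      (by rw [hcard]; norm_num)
  · exact PermDiff.mem_charDegrees_perm_sub_one (GaloisField 2 3) (by rw [hF]; norm_num)
      two_transitive 7 (by rw [hF])

end Cfsg.Agent.H59.AffLine
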