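import Cfsg.Agent.H59.PermDiff

set_option autoImplicit false
set_option linter.unusedSectionVars false
set_option linter.style.haveILetI false

/-! A solvable group of order `108` with an irreducible character of degree `6`: the group of the
affine maps `(x, y) ↦ (±x + b y + v, ±y + w)` of the plane over `ZMod 3`.  It acts on the `9`
points with rank `3`, `2`-transitively on the `3` lines `y = const`, and with two orbits on
(points) × (lines); hence (permutation character on points) − (permutation character on lines)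
is irreducible, of degree `6`. -/

namespace Cfsg.Agent.H59.AffTri

open Cfsg Cfsg.Agent.H4

/-- the sign `±1` in `ZMod 3` coded by a boolean -/
def sg : Bool → ZMod 3
  | false => 1
  | true => 2

theorem sg_xor (a b : Bool) : sg (xor a b) = sg a * sg b := by
  cases a <;> cases b <;> decide

theorem sg_sq (a : Bool) : sg a * sg a = 1 := by
  cases a <;> decide

/-- the group elements: the map `(x, y) ↦ (sg a * x + b * y + v, sg d * y + w)` -/
@[ext] structure T where
  a : Bool
  d : Bool
  b : ZMod 3
  v : ZMod 3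
  w : ZMod 3
deriving DecidableEq, Fintype

/-- the points of the plane -/
@[ext] structure Pt where
  x : ZMod 3
  y : ZMod 3
deriving DecidableEq, Fintype

/-- the lines `y = const` -/
@[ext] structure Ln where
  y : ZMod 3
deriving DecidableEq, Fintype

instance : Mul T := ⟨fun g h =>
  ⟨xor g.a h.a, xor g.d h.d, sg g.a * h.b + g.b * sg h.d, sg g.a * h.v + g.b * h.w + g.v,
    sg g.d * h.w + g.w⟩⟩
instance : One T := ⟨⟨false, false, 0, 0, 0⟩⟩
instance : Inv T := ⟨fun g =>
  ⟨g.a, g.d, -(sg g.a * sg g.d * g.b), sg g.a * sg g.d * g.b * g.w - sg g.a * g.v,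
    -(sg g.d * g.w)⟩⟩

theorem mul_def (g h : T) : g * h =
    ⟨xor g.a h.a, xor g.d h.d, sg g.a * h.b + g.b * sg h.d, sg g.a * h.v + g.b * h.w + g.v,
      sg g.d * h.w + g.w⟩ := rfl
theorem one_def : (1 : T) = ⟨false, false, 0, 0, 0⟩ := rfl
theorem inv_def (g : T) : g⁻¹ =
    ⟨g.a, g.d, -(sg g.a * sg g.d * g.b), sg g.a * sg g.d * g.b * g.w - sg g.a * g.v,
      -(sg g.d * g.w)⟩ := rfl

instance : Group T where
  mul_assoc g h k := by
    simp only [mul_def]
    ext
    · simp
    · simp
    · simp only [sg_xor]; ring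
    · simp only [sg_xor]; ring
    · simp only [sg_xor]; ring
  one_mul g := by
    simp only [mul_def, one_def]
    ext <;> simp [sg]
  mul_one g := by
    simp only [mul_def, one_def]
    ext <;> simp [sg]
  inv_mul_cancel g := by
    simp only [mul_def, one_def, inv_def]
    have ha := sg_sq g.a
    have hd := sg_sq g.d
    ext
    · simp
    · simp
    · show sg g.a * g.b + -(sg g.a * sg g.d * g.b) * sg g.d = 0
      linear_combination (-(sg g.a * g.b)) * hd
    · show sg g.a * g.v + -(sg g.a * sg g.d * g.b) * g.w +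
        (sg g.a * sg g.d * g.b * g.w - sg g.a * g.v) = 0
      ring
    · show sg g.d * g.w + -(sg g.d * g.w) = 0
      ring

instance : MulAction T Pt where
  smul g p := ⟨sg g.a * p.x + g.b * p.y + g.v, sg g.d * p.y + g.w⟩
  one_smul p := by
    show (⟨sg (1 : T).a * p.x + (1 : T).b * p.y + (1 : T).v, sg (1 : T).d * p.y + (1 : T).w⟩ : Pt)
      = p
    ext <;> simp [one_def, sg]
  mul_smul g h p := by
    show (⟨sg (g * h).a * p.x + (g * h).b * p.y + (g * h).v,
        sg (g * h).d * p.y + (g * h).w⟩ : Pt) =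
      ⟨sg g.a * (sg h.a * p.x + h.b * p.y + h.v) + g.b * (sg h.d * p.y + h.w) + g.v,
        sg g.d * (sg h.d * p.y + h.w) + g.w⟩
    ext
    · simp only [mul_def, sg_xor]; ring
    · simp only [mul_def, sg_xor]; ring

instance : MulAction T Ln where
  smul g l := ⟨sg g.d * l.y + g.w⟩
  one_smul l := by
    show (⟨sg (1 : T).d * l.y + (1 : T).w⟩ : Ln) = l
    ext; simp [one_def, sg]
  mul_smul g h l := by
    show (⟨sg (g * h).d * l.y + (g * h).w⟩ : Ln) = ⟨sg g.d * (sg h.d * l.y + h.w) + g.w⟩
    ext
    simp only [mul_def, sg_xor]; ring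

theorem smul_pt (g : T) (p : Pt) :
    g • p = ⟨sg g.a * p.x + g.b * p.y + g.v, sg g.d * p.y + g.w⟩ := rfl
theorem smul_ln (g : T) (l : Ln) : g • l = ⟨sg g.d * l.y + g.w⟩ := rfl

theorem card_T : Nat.card T = 108 := by
  rw [Nat.card_eq_fintype_card]; rfl

theorem card_Pt : Nat.card Pt = 9 := by
  rw [Nat.card_eq_fintype_card]; rfl

theorem card_Ln : Nat.card Ln = 3 := by
  rw [Nat.card_eq_fintype_card]; rfl

/-- counting orbits from a list of representatives -/
theorem card_orbits_of_reps {G Z : Type*} [Group G] [MulAction G Z] {k : ℕ} (reps : Fin k → Z)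
    (hcover : ∀ z : Z, ∃ i : Fin k, ∃ g : G, g • reps i = z)
    (hsep : ∀ i j : Fin k, (∃ g : G, g • reps i = reps j) → i = j) :
    Nat.card (Quotient (MulAction.orbitRel G Z)) = k := by
  have hbij : Function.Bijective
      (fun i : Fin k => (Quotient.mk'' (reps i) : Quotient (MulAction.orbitRel G Z))) := by
    constructor
    · intro i j h
      simp only at h
      rw [Quotient.eq''] at h
      rw [MulAction.orbitRel_apply, MulAction.mem_orbit_iff] at h
      obtain ⟨g, hg⟩ := h
      exact (hsep j i ⟨g, hg⟩).symm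
    · intro q
      induction q using Quotient.inductionOn' with
      | h z =>
        obtain ⟨i, g, hg⟩ := hcover z
        refine ⟨i, ?_⟩
        simp only
        rw [Quotient.eq'', MulAction.orbitRel_apply, MulAction.mem_orbit_iff]
        exact ⟨g⁻¹, by rw [← hg, inv_smul_smul]⟩
  rw [← Nat.card_congr (Equiv.ofBijective _ hbij), Nat.card_fin]

instance : MulAction.IsPretransitive T Pt := ⟨by decide⟩

instance : MulAction.IsPretransitive T Ln := ⟨by decide⟩

theorem two_trans_Ln : MulAction.IsMultiplyPretransitive T Ln 2 := by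
  rw [MulAction.is_two_pretransitive_iff]
  decide

/-- representatives of the orbits on pairs of points -/
def repsXX : Fin 3 → Pt × Pt :=
  ![(⟨0, 0⟩, ⟨0, 0⟩), (⟨0, 0⟩, ⟨1, 0⟩), (⟨0, 0⟩, ⟨0, 1⟩)]

/-- representatives of the orbits on (point, line) -/
def repsXY : Fin 2 → Pt × Ln :=
  ![(⟨0, 0⟩, ⟨0⟩), (⟨0, 0⟩, ⟨1⟩)]

theorem orbits_XX : Nat.card (Quotient (MulAction.orbitRel T (Pt × Pt))) = 3 :=
  card_orbits_of_reps repsXX (by decide +kernel) (by decide +kernel)

theorem orbits_XY : Nat.card (Quotient (MulAction.orbitRel T (Pt × Ln))) = 2 :=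
  card_orbits_of_reps repsXY (by decide +kernel) (by decide +kernel)

/-- A solvable group of order `108` with an irreducible character of degree `6`. -/
theorem solvB : ∃ (B : Type) (_ : Group B) (_ : Fintype B), Group.IsSolvable B ∧
    Nat.card B = 108 ∧ 6 ∈ Cfsg.charDegrees B := by
  refine ⟨T, inferInstance, inferInstance, ?_, card_T, ?_⟩
  · exact isSolvable_of_card_eq_prime_pow_mul_prime_pow 2 3 2 3 Nat.prime_two Nat.prime_three
      (by rw [card_T]; norm_num)
  · haveI : Nonempty Pt := ⟨⟨0, 0⟩⟩
    exact PermDiff.mem_charDegrees_perm_sub_perm Pt Ln (by rw [card_Ln]; norm_num) two_trans_Ln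
      orbits_XX orbits_XY 6 (by rw [card_Pt, card_Ln])

end Cfsg.Agent.H59.AffTri
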