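import Cfsg.Agent.H96.GuDefs

/-! S5700 piece GU-EXTB (helper59): the adjoint of `J` is `t - J`, `J` scales `Q` by `N`, and
`B x (J x) = t * Q x`. Pure matrix-level argument (no engine). -/

set_option autoImplicit false

namespace Cfsg.Agent.H59.Gu

open Matrix

universe u

theorem extB_aux {n : ℕ} {F : Type u} [Field F] (Q : (Fin n → F) → F)
    (hQ : Cfsg.Geo.IsNondegenerateQuadraticForm Q)
    (K : Subalgebra F (Matrix (Fin n) (Fin n) F)) (Jm : Matrix (Fin n) (Fin n) F) (t N : F)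
    (hK : ∀ k : Matrix (Fin n) (Fin n) F, k ∈ K ↔
      ∃ a b : F, k = a • Jm + b • (1 : Matrix (Fin n) (Fin n) F))
    (hsq : Jm * Jm = t • Jm - N • (1 : Matrix (Fin n) (Fin n) F))
    (hfield : Cfsg.Geo.IsFieldSubalgebra 2 K)
    (hadj : Cfsg.Geo.IsAdjointClosedFor (QuadraticMap.polar Q) K)
    (hnsa : ¬ Cfsg.Geo.IsSelfAdjointFor (QuadraticMap.polar Q) K)
    (hsim : ∀ k ∈ K, ∃ c : F, ∀ v : Fin n → F, Q (k *ᵥ v) = c * Q v) :
    (∀ x y : Fin n → F, QuadraticMap.polar Q (Jm *ᵥ x) y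
        = t * QuadraticMap.polar Q x y - QuadraticMap.polar Q x (Jm *ᵥ y)) ∧
      (∀ x : Fin n → F, Q (Jm *ᵥ x) = N * Q x) ∧
      (∀ x : Fin n → F, QuadraticMap.polar Q x (Jm *ᵥ x) = t * Q x) := by
  have bl := hQ.polar_bilinear
  have nd := hQ.nondegenerate
  have bsymm : ∀ x y, QuadraticMap.polar Q x y = QuadraticMap.polar Q y x :=
    fun x y => QuadraticMap.polar_comm Q x y
  have hsubL : ∀ x y v, QuadraticMap.polar Q (x - y) v
      = QuadraticMap.polar Q x v - QuadraticMap.polar Q y v := by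
    intro x y v
    have h1 : x - y = x + (-1 : F) • y := by rw [neg_one_smul, sub_eq_add_neg]
    rw [h1, bl.add_left, bl.smul_left]
    ring
  have hsubR : ∀ v x y, QuadraticMap.polar Q v (x - y)
      = QuadraticMap.polar Q v x - QuadraticMap.polar Q v y := by
    intro v x y
    rw [bsymm v (x - y), hsubL, bsymm x v, bsymm y v]
  have hzeroL : ∀ v, QuadraticMap.polar Q 0 v = 0 := by
    intro v
    have h1 := bl.smul_left 0 0 v
    rw [zero_smul, zero_mul] at h1
    exact h1
  have hQ0 : Q 0 = 0 := by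
    have h1 := hQ.smul 0 0
    rw [zero_smul] at h1
    rw [h1]
    simp
  have hJK : Jm ∈ K := (hK Jm).mpr ⟨1, 0, by simp⟩
  obtain ⟨J', hJ'K, hJ'⟩ := hadj Jm hJK
  -- matrices are determined by the form
  have hext : ∀ M M' : Matrix (Fin n) (Fin n) F,
      (∀ u v, QuadraticMap.polar Q u (M *ᵥ v) = QuadraticMap.polar Q u (M' *ᵥ v)) → M = M' := by
    intro M M' h
    have hv : ∀ v, M *ᵥ v = M' *ᵥ v := by
      intro v
      by_contra hne
      have hne' : M *ᵥ v - M' *ᵥ v ≠ 0 := sub_ne_zero.mpr hne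
      obtain ⟨x, hx⟩ := (nd _ hne').1
      apply hx
      rw [hsubR, h x v, sub_self]
    apply Matrix.toLin'.injective
    apply LinearMap.ext
    intro v
    rw [Matrix.toLin'_apply, Matrix.toLin'_apply]
    exact hv v
  -- J' is a root of the same quadratic
  have hJ'sq : J' * J' = t • J' - N • (1 : Matrix (Fin n) (Fin n) F) := by
    apply hext
    intro u v
    have e1 : QuadraticMap.polar Q u ((J' * J') *ᵥ v)
        = t * QuadraticMap.polar Q (Jm *ᵥ u) v - N * QuadraticMap.polar Q u v := by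
      rw [← Matrix.mulVec_mulVec, ← hJ' u, ← hJ' (Jm *ᵥ u), Matrix.mulVec_mulVec, hsq,
        Matrix.sub_mulVec, Matrix.smul_mulVec, Matrix.smul_mulVec, Matrix.one_mulVec, hsubL,
        bl.smul_left, bl.smul_left]
    have e2 : QuadraticMap.polar Q u ((t • J' - N • (1 : Matrix (Fin n) (Fin n) F)) *ᵥ v)
        = t * QuadraticMap.polar Q (Jm *ᵥ u) v - N * QuadraticMap.polar Q u v := by
      rw [Matrix.sub_mulVec, Matrix.smul_mulVec, Matrix.smul_mulVec, Matrix.one_mulVec, hsubR,
        bl.smul_right, bl.smul_right, ← hJ' u]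
    rw [e1, e2]
  have hcomm : J' * Jm = Jm * J' := hfield.comm J' hJ'K Jm hJK
  have hprod : (J' - Jm) * (J' - (t • (1 : Matrix (Fin n) (Fin n) F) - Jm)) = 0 := by
    simp only [sub_mul, mul_sub, mul_smul_comm, mul_one]
    rw [hcomm, hJ'sq, hsq]
    module
  have hxK : J' - Jm ∈ K := K.sub_mem hJ'K hJK
  have hcases : J' = Jm ∨ J' = t • (1 : Matrix (Fin n) (Fin n) F) - Jm := by
    by_cases hx : J' - Jm = 0
    · exact Or.inl (sub_eq_zero.mp hx)
    · right
      obtain ⟨z, hzK, hz⟩ := hfield.inv _ hxK hx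
      have hz' : z * (J' - Jm) = 1 := by rw [hfield.comm z hzK _ hxK]; exact hz
      have h1 : J' - (t • (1 : Matrix (Fin n) (Fin n) F) - Jm)
          = z * ((J' - Jm) * (J' - (t • (1 : Matrix (Fin n) (Fin n) F) - Jm))) := by
        rw [← mul_assoc, hz', one_mul]
      rw [hprod, mul_zero] at h1
      exact sub_eq_zero.mp h1
  have hmv : ∀ (a b : F) (u : Fin n → F),
      (a • Jm + b • (1 : Matrix (Fin n) (Fin n) F)) *ᵥ u = a • (Jm *ᵥ u) + b • u := by
    intro a b u
    rw [Matrix.add_mulVec, Matrix.smul_mulVec, Matrix.smul_mulVec, Matrix.one_mulVec]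
  -- (1)
  have h1 : ∀ x y : Fin n → F, QuadraticMap.polar Q (Jm *ᵥ x) y
      = t * QuadraticMap.polar Q x y - QuadraticMap.polar Q x (Jm *ᵥ y) := by
    rcases hcases with hc | hc
    · exfalso
      apply hnsa
      intro k hk u v
      obtain ⟨a, b, rfl⟩ := (hK k).mp hk
      rw [hmv, hmv, bl.add_left, bl.smul_left, bl.smul_left, bl.add_right, bl.smul_right,
        bl.smul_right, hJ' u v, hc]
    · intro x y
      rw [hJ' x y, hc, Matrix.sub_mulVec, Matrix.smul_mulVec, Matrix.one_mulVec, hsubR,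
        bl.smul_right]
  -- polar of images
  have hJJ : ∀ x y : Fin n → F, QuadraticMap.polar Q (Jm *ᵥ x) (Jm *ᵥ y)
      = N * QuadraticMap.polar Q x y := by
    intro x y
    rw [h1, Matrix.mulVec_mulVec, hsq, Matrix.sub_mulVec, Matrix.smul_mulVec, Matrix.smul_mulVec,
      Matrix.one_mulVec, hsubR, bl.smul_right, bl.smul_right]
    ring
  -- (2)
  have h2 : ∀ x : Fin n → F, Q (Jm *ᵥ x) = N * Q x := by
    obtain ⟨c, hc⟩ := hsim Jm hJK
    intro x
    by_cases hx : x = 0
    · rw [hx, Matrix.mulVec_zero, hQ0, mul_zero]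
    · obtain ⟨y, hy⟩ := (nd x hx).1
      have h3 : QuadraticMap.polar Q (Jm *ᵥ y) (Jm *ᵥ x) = c * QuadraticMap.polar Q y x := by
        unfold QuadraticMap.polar
        rw [← Matrix.mulVec_add, hc, hc, hc]
        ring
      rw [hJJ] at h3
      have h4 : N = c := mul_right_cancel₀ hy h3
      rw [hc, h4]
  -- (3)
  have h3 : ∀ x : Fin n → F, QuadraticMap.polar Q x (Jm *ᵥ x) = t * Q x := by
    obtain ⟨s, hs⟩ := hsim (Jm + 1) (K.add_mem hJK K.one_mem)
    have hself : ∀ v : Fin n → F, QuadraticMap.polar Q v (Jm *ᵥ v) = (s - N - 1) * Q v := by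
      intro v
      have h4 := hs v
      rw [Matrix.add_mulVec, Matrix.one_mulVec] at h4
      have h5 : QuadraticMap.polar Q (Jm *ᵥ v) v = Q (Jm *ᵥ v + v) - Q (Jm *ᵥ v) - Q v := rfl
      rw [bsymm, h5, h4, h2]
      ring
    intro x
    by_cases hx : x = 0
    · rw [hx, hzeroL, hQ0, mul_zero]
    · obtain ⟨y, hy⟩ := (nd x hx).1
      -- polarise hself at x + y
      have h6 := hself (x + y)
      have h7 : QuadraticMap.polar Q (x + y) (Jm *ᵥ (x + y))
          = QuadraticMap.polar Q x (Jm *ᵥ x) + QuadraticMap.polar Q x (Jm *ᵥ y)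
            + QuadraticMap.polar Q y (Jm *ᵥ x) + QuadraticMap.polar Q y (Jm *ᵥ y) := by
        rw [Matrix.mulVec_add, bl.add_left, bl.add_right, bl.add_right]
        ring
      have h8 : Q (x + y) = Q x + Q y + QuadraticMap.polar Q x y := by
        unfold QuadraticMap.polar
        ring
      rw [h7, h8, hself x, hself y] at h6
      have h9 : QuadraticMap.polar Q x (Jm *ᵥ y)
          = t * QuadraticMap.polar Q y x - QuadraticMap.polar Q y (Jm *ᵥ x) := by
        rw [bsymm x (Jm *ᵥ y), h1 y x]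
      rw [h9, bsymm x y] at h6
      have h10 : (t - (s - N - 1)) * QuadraticMap.polar Q y x = 0 := by linear_combination h6
      have h11 : t = s - N - 1 := by
        rcases mul_eq_zero.mp h10 with h | h
        · exact sub_eq_zero.mp h
        · exact absurd h hy
      rw [hself, h11]
  exact ⟨h1, h2, h3⟩

/-- GU-EXTB. -/
theorem extB : Cfsg.Agent.H96.Gu.StExtB.{u} := by
  intro n F _ Q hQ K Jm t N hK hsq _ _ hfield hadj hnsa hsim
  exact extB_aux Q hQ K Jm t N hK hsq hfield hadj hnsa hsim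

example : Cfsg.Agent.H96.Gu.StExtB.{u} := Cfsg.Agent.H59.Gu.extB

end Cfsg.Agent.H59.Gu
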