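import Cfsg.Agent.H96.GuDefs

/-! S5700 piece GU-SNM (helper59): a singular vector orthogonal to, and outside, the span of
`u, J u, v, J v`. -/

set_option autoImplicit false

namespace Cfsg.Agent.H59.Gu

open Module Matrix Cfsg.Agent.H49 Cfsg.Agent.H95 Cfsg.Agent.H96.Gu

universe u

theorem snm : StSNM.{u} := by
  intro ι _ _ F _ _ Q J t N C u v
  classical
  have h4 : finrank F (Submodule.span F ({u, J u, v, J v} : Set (ι → F))) ≤ 4 := by
    have h5 := finrank_span_finset_le_card (R := F) ({u, J u, v, J v} : Finset (ι → F))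
    have h6 : (({u, J u, v, J v} : Finset (ι → F)) : Set (ι → F)) = {u, J u, v, J v} := by
      simp
    rw [h6] at h5
    exact h5.trans Finset.card_le_four
  have hd : 2 * finrank F (Submodule.span F ({u, J u, v, J v} : Set (ι → F))) + 3
      ≤ finrank F (ι → F) := by
    rw [Module.finrank_fintype_fun_eq_card]
    have := C.dim
    omega
  obtain ⟨e, he, hperp, hnot⟩ :=
    exists_singular_orth_not_mem Q C.nd (Submodule.span F ({u, J u, v, J v} : Set (ι → F))) hd
  have hu : u ∈ Submodule.span F ({u, J u, v, J v} : Set (ι → F)) :=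
    Submodule.subset_span (by simp)
  have hJu : J u ∈ Submodule.span F ({u, J u, v, J v} : Set (ι → F)) :=
    Submodule.subset_span (by simp)
  have hv : v ∈ Submodule.span F ({u, J u, v, J v} : Set (ι → F)) :=
    Submodule.subset_span (by simp)
  have hJv : J v ∈ Submodule.span F ({u, J u, v, J v} : Set (ι → F)) :=
    Submodule.subset_span (by simp)
  refine ⟨e, he, ⟨?_, ?_⟩, ⟨?_, ?_⟩, ?_⟩
  · rw [QuadraticMap.polar_comm]
    exact hperp u hu
  · rw [QuadraticMap.polar_comm]
    exact hperp (J u) hJu
  · rw [QuadraticMap.polar_comm]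
    exact hperp v hv
  · rw [QuadraticMap.polar_comm]
    exact hperp (J v) hJv
  · intro a b c d h
    apply hnot
    rw [h]
    exact add_mem (add_mem (add_mem (Submodule.smul_mem _ a hu) (Submodule.smul_mem _ b hJu))
      (Submodule.smul_mem _ c hv)) (Submodule.smul_mem _ d hJv)

example : Cfsg.Agent.H96.Gu.StSNM.{u} := Cfsg.Agent.H59.Gu.snm

end Cfsg.Agent.H59.Gu
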