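import Cfsg.Agent.H96.GuDefs

/-! S5700 piece GU-TAU (helper59): the Siegel element at `(u, J u)` commutes with `J`. -/

set_option autoImplicit false

namespace Cfsg.Agent.H59.Gu

open Module Matrix Cfsg.Agent.H49 Cfsg.Agent.H95 Cfsg.Agent.H96.Gu

universe u

theorem tau : StTau.{u} := by
  intro ι _ _ F _ _ Q J t N C u hu hJu h c x
  rw [act_siegelG, act_siegelG, map_add, map_smul, map_sub, map_smul, map_smul, C.sq u,
    C.adj' u x, C.polJJ u x]
  module

example : Cfsg.Agent.H96.Gu.StTau.{u} := Cfsg.Agent.H59.Gu.tau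

end Cfsg.Agent.H59.Gu
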