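import Mathlib
import Cfsg.Agent.H52.JxDefs
import Cfsg.Agent.H64.JzFinal
import Cfsg.Agent.H59.PushKill2
import Cfsg.Agent.S2950
import Cfsg.Agent.H51.Local
import Cfsg.Agent.H54.UqO2SN
import Cfsg.Agent.Helper55.J48

/-!
# JX-PF (S2953, JY-KILL2): `O₂(K ⊔ T) ≤ T`, `O₂(K ⊔ T) ≠ 1`, `K ⊔ T ≤ N_G(O₂(K ⊔ T))`
-/

set_option autoImplicit false
open Cfsg

namespace Cfsg.Agent.H59.Jx

open Cfsg.Agent.H64.Jz Cfsg.Agent.H64.Jy Cfsg.Agent.H52.Jx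

universe u

/-- JX-PF. -/
theorem pf : StPF.{u} := by
  intro G _ _ S M T K L hB
  have hTK : T ≤ Subgroup.normalizer (K : Set G) :=
    normFinal S M T K L hB (stMain S M T K L hB)
  obtain ⟨hZN, hO, hM, hMJ, hT, -, hK, hLmax, hKL⟩ := hB
  obtain ⟨hc2, hsolv, hZ⟩ := hZN
  obtain ⟨L₀, -, -, huniq, hsn₀, hSyl₀⟩ :=
    Cfsg.Agent.S2950.result hc2 hsolv hZ hO S M hM hMJ T hT K hK
  have hLL₀ : L = L₀ := huniq L hLmax hKL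
  have hSyl : IsSylowTwoIn T L := by rw [hLL₀]; exact hSyl₀
  have hsn : (K.subgroupOf L).IsSubnormal := by rw [hLL₀]; exact hsn₀
  have hKL' : K ≤ L := le_sup_left.trans hKL
  have hQT : pCoreOf 2 L ≤ T := Cfsg.Agent.Helper55.J48.pCoreOf_le_of_sylowIn hSyl
  have hOT : pCoreOf 2 K ≤ T := (Cfsg.Agent.H54.Uq.o2sn K L hKL' hsn).trans hQT
  have hOK : pCoreOf 2 K ≤ K := Cfsg.Agent.H51.pCoreOf_le 2 K
  have hT2 : IsPGroup 2 ↥T := hSyl.2.1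
  obtain ⟨hK0, -, hcore⟩ := hK
  obtain ⟨hgen, -, hidx3, -, -, -⟩ := hK0.1
  have hKn2 : ¬ IsPGroup 2 ↥K := by
    intro h2
    have hle : K ≤ pCoreOf 2 K := Cfsg.Agent.H51.le_pCoreOf 2 le_rfl Subgroup.le_normalizer h2
    have h1 : (pCoreOf 2 K).relIndex K = 1 := Subgroup.relIndex_eq_one.mpr hle
    omega
  obtain ⟨Q, hQT', hPQ, -, hdich⟩ :=
    Cfsg.Agent.H59.PushKill.pstruct K T (pCoreOf 2 K) hT2 hTK hOK hOT hidx3 hgen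
  have hOQ : pCoreOf 2 (K ⊔ T) ≤ Q := by
    have hnorm : ∀ x ∈ K ⊔ T, Cfsg.Agent.H59.PushKill.cj (pCoreOf 2 (K ⊔ T)) x =
        pCoreOf 2 (K ⊔ T) := fun x hx =>
      Cfsg.Agent.H59.PushKill.cj_eq_of_mem_normalizer
        (Cfsg.Agent.H51.le_normalizer_pCoreOf 2 (K ⊔ T) hx)
    rcases hdich (pCoreOf 2 (K ⊔ T)) (Cfsg.Agent.H51.pCoreOf_le 2 (K ⊔ T)) hnorm with h | h
    · exact h
    · exact absurd ((Cfsg.Agent.H51.pCoreOf_isPGroup 2 (K ⊔ T)).to_le h) hKn2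
  exact ⟨hOQ.trans hQT', hcore, Cfsg.Agent.H51.le_normalizer_pCoreOf 2 (K ⊔ T)⟩

example : Cfsg.Agent.H52.Jx.StPF.{u} := pf

end Cfsg.Agent.H59.Jx

#print axioms Cfsg.Agent.H59.Jx.pf
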