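import Mathlib
import Cfsg.Agent.H52.JxDefs
import Cfsg.Agent.H39.JzLex
import Cfsg.Agent.H59.PushKill
import Cfsg.Agent.H14.Thompson

/-!
# JX-STAR (S2953, JY-KILL2): for `T < S`, no non-trivial subgroup of `T` is normalized by
`K ⊔ T` and by `N_S(T)`
-/

set_option autoImplicit false
open Cfsg

namespace Cfsg.Agent.H59.Jx

open Cfsg.Agent.H64.Jz Cfsg.Agent.H64.Jy Cfsg.Agent.H52.Jx

universe u

/-- `N_G(S) ≤ N_G(J(S))`. -/
theorem normalizer_le_normalizer_j {G : Type u} [Group G] (S : Subgroup G) :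
    Subgroup.normalizer (S : Set G) ≤ Subgroup.normalizer (thompsonSubgroupOf 2 S : Set G) := by
  have key : ∀ g ∈ Subgroup.normalizer (S : Set G),
      Cfsg.Agent.H59.PushKill.cj (thompsonSubgroupOf 2 S) g = thompsonSubgroupOf 2 S := by
    intro g hg
    have h1 := Cfsg.Agent.H14.thompsonSubgroupOf_conj 2 g S
    have h2 : S.map (MulAut.conj g).toMonoidHom = S :=
      Cfsg.Agent.H59.PushKill.cj_eq_of_mem_normalizer hg
    rw [h2] at h1
    exact h1
  intro g hg
  exact Cfsg.Agent.H59.PushKill.mem_normalizer_of_cj_le (key g hg).le (key g⁻¹ (inv_mem hg)).le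

/-- JX-STAR. -/
theorem star : StStar.{u} := by
  intro G _ _ S M T K L hB hne F hF0 hFT hPF hxF
  obtain ⟨-, -, hM, hMJ, hT, hTS, hK, -, -⟩ := hB
  have hSM : (S : Subgroup G) ≤ M :=
    (Subgroup.le_normalizer.trans (normalizer_le_normalizer_j (S : Subgroup G))).trans hMJ
  have hT2 : IsPGroup 2 ↥T := S.isPGroup'.to_le hTS
  have hF2 : IsPGroup 2 ↥F := hT2.to_le hFT
  have hNF : IsTwoLocal (Subgroup.normalizer (F : Set G)) := ⟨F, hF2, hF0, rfl⟩
  have hle : Subgroup.normalizer (F : Set G) ≤ M :=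
    Cfsg.Agent.H39.Jz.twoLocal_le_of_normalizer hT S.isPGroup' hSM hTS hne hNF
      (fun x hx => hxF x hx.1 hx.2)
  exact hK.2.1 ((le_sup_left.trans hPF).trans hle)

example : Cfsg.Agent.H52.Jx.StStar.{u} := star

end Cfsg.Agent.H59.Jx

#print axioms Cfsg.Agent.H59.Jx.star
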