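import Mathlib

/-!
# S0435-G3C: a group of order 4 acting faithfully on a group of order 9
-/

set_option autoImplicit false

open Subgroup

namespace Cfsg.Agent.H59.M11

theorem conj_pow_iter {G : Type*} [Group G] (g t : G) (m : ℕ) (h : g * t * g⁻¹ = t ^ m)
    (j : ℕ) : g ^ j * t * (g ^ j)⁻¹ = t ^ (m ^ j) := by
  induction j with
  | zero => simp
  | succ j ih =>
    calc g ^ (j + 1) * t * (g ^ (j + 1))⁻¹ = g * (g ^ j * t * (g ^ j)⁻¹) * g⁻¹ := by
          rw [pow_succ']; group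
      _ = g * t ^ (m ^ j) * g⁻¹ := by rw [ih]
      _ = (g * t * g⁻¹) ^ (m ^ j) := (conj_pow).symm
      _ = (t ^ m) ^ (m ^ j) := by rw [h]
      _ = t ^ (m ^ (j + 1)) := by rw [← pow_mul, pow_succ']

theorem exists_ne_ne {α : Type*} (h : 2 < Nat.card α) (a b : α) : ∃ c, c ≠ a ∧ c ≠ b := by
  by_contra hne
  push Not at hne
  have hfin : Finite α := Nat.finite_of_card_ne_zero (by omega)
  have hsub : (Set.univ : Set α) ⊆ {a, b} := by
    intro c _
    by_cases hc : c = a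
    · left; exact hc
    · right; exact hne c hc
  have h1 := Set.ncard_le_ncard hsub (Set.toFinite _)
  rw [Set.ncard_univ] at h1
  have h2 : ({a, b} : Set α).ncard ≤ 2 := by
    have := Set.ncard_insert_le a ({b} : Set α)
    rw [Set.ncard_singleton] at this
    exact this
  omega

/-- Step 1: `P` has exponent 3. -/
theorem g3c_exp {G : Type*} [Group G] (P Q : Subgroup G)
    (hP : Nat.card P = 9) (hQ : Nat.card Q = 4) (hQP : Q ≤ normalizer (P : Set G))
    (hfaith : ∀ q ∈ Q, (∀ x ∈ P, q * x * q⁻¹ = x) → q = 1) :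
    ∀ x ∈ P, x ^ 3 = 1 := by
  intro x hx
  by_contra h3
  have hfinP : Finite P := Nat.finite_of_card_ne_zero (by omega)
  have hfinQ : Finite Q := Nat.finite_of_card_ne_zero (by omega)
  have hnorm : ∀ q ∈ Q, ∀ y ∈ P, q * y * q⁻¹ ∈ P :=
    fun q hq y hy => (Subgroup.mem_normalizer_iff.mp (hQP hq) y).mp hy
  have hQ4 : ∀ q ∈ Q, q ^ 4 = 1 := by
    intro q hq
    have := pow_card_eq_one' (G := Q) (x := ⟨q, hq⟩)
    rw [hQ] at this
    simpa using congrArg Subtype.val this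
  have h9 : x ^ 9 = 1 := by
    have := pow_card_eq_one' (G := P) (x := ⟨x, hx⟩)
    rw [hP] at this
    simpa using congrArg Subtype.val this
  have hord : orderOf x = 9 := by
    have hd : orderOf x ∣ 9 := orderOf_dvd_of_pow_eq_one h9
    have hmem : orderOf x ∈ Nat.divisors 9 := by simp [hd]
    have hdiv : Nat.divisors 9 = {1, 3, 9} := by decide
    rw [hdiv] at hmem
    simp only [Finset.mem_insert, Finset.mem_singleton] at hmem
    rcases hmem with h | h | h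
    · rw [orderOf_eq_one_iff] at h; rw [h] at h3; simp at h3
    · exact absurd (h ▸ pow_orderOf_eq_one x) h3
    · exact h
  have hfo : IsOfFinOrder x := isOfFinOrder_iff_pow_eq_one.mpr ⟨9, by norm_num, h9⟩
  have hzp : Subgroup.zpowers x = P := by
    apply Subgroup.eq_of_le_of_card_ge
    · rw [Subgroup.zpowers_le]; exact hx
    · rw [Nat.card_zpowers, hord, hP]
  have hall : ∀ q ∈ Q, ∀ (e : G), (q * x * q⁻¹ = e) → (e = x ∨ e = x⁻¹) →
      ∀ y ∈ P, (e = x → q * y * q⁻¹ = y) ∧ (e = x⁻¹ → q * y * q⁻¹ = y⁻¹) := by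
    intro q hq e he _ y hy
    rw [← hzp] at hy
    obtain ⟨k, rfl⟩ := Subgroup.mem_zpowers_iff.mp hy
    constructor
    · intro h; rw [← conj_zpow, he, h]
    · intro h; rw [← conj_zpow, he, h, inv_zpow]
  have hcase : ∀ q ∈ Q, q * x * q⁻¹ = x ∨ q * x * q⁻¹ = x⁻¹ := by
    intro q hq
    have h1 : q * x * q⁻¹ ∈ Subgroup.zpowers x := by
      rw [hzp]; exact hnorm q hq x hx
    rw [← hfo.mem_powers_iff_mem_zpowers] at h1
    obtain ⟨k, hk⟩ := h1
    have hk' : q * x * q⁻¹ = x ^ k := hk.symm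
    have h4 := conj_pow_iter q x k hk' 4
    rw [hQ4 q hq] at h4
    simp only [one_mul, inv_one, mul_one] at h4
    have hmod : k ^ 4 ≡ 1 [MOD 9] := by
      rw [← hord, ← pow_eq_pow_iff_modEq]; simpa using h4.symm
    have hkm : k % 9 = 1 ∨ k % 9 = 8 := by
      have h5 : (k % 9) ^ 4 % 9 = 1 := by
        have := hmod
        unfold Nat.ModEq at this
        rw [Nat.pow_mod] at this
        simpa using this
      have hlt : k % 9 < 9 := Nat.mod_lt _ (by norm_num)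
      generalize k % 9 = r at h5 hlt
      interval_cases r <;> first | exact Or.inl rfl | exact Or.inr rfl | (exfalso; revert h5; decide)
    rcases hkm with h | h
    · left
      rw [hk', ← pow_mod_orderOf, hord, h, pow_one]
    · right
      rw [hk', ← pow_mod_orderOf, hord, h]
      exact eq_inv_of_mul_eq_one_left (by rw [← pow_succ, h9])
  -- every nonidentity element of `Q` inverts `x`
  have hinv : ∀ q ∈ Q, q ≠ 1 → q * x * q⁻¹ = x⁻¹ := by
    intro q hq hq1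
    rcases hcase q hq with h | h
    · exfalso
      apply hq1
      apply hfaith q hq
      intro y hy
      exact (hall q hq x h (Or.inl rfl) y hy).1 rfl
    · exact h
  obtain ⟨q1, hq1, -⟩ := exists_ne_ne (α := Q) (by rw [hQ]; norm_num) 1 1
  obtain ⟨q2, hq2, hq21⟩ := exists_ne_ne (α := Q) (by rw [hQ]; norm_num) 1 q1
  have hq1' : (q1 : G) ≠ 1 := fun h => hq1 (Subtype.ext h)
  have hq2' : (q2 : G) ≠ 1 := fun h => hq2 (Subtype.ext h)
  have e1 := hinv q1 q1.2 hq1'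
  have e2 := hinv q2 q2.2 hq2'
  have e3 : ((q1 : G)⁻¹ * q2) * x * ((q1 : G)⁻¹ * q2)⁻¹ = x := by
    have : ((q1 : G)⁻¹ * q2) * x * ((q1 : G)⁻¹ * q2)⁻¹
        = (q1 : G)⁻¹ * ((q2 : G) * x * (q2 : G)⁻¹) * q1 := by group
    rw [this, e2, ← e1]; group
  have hmem : (q1 : G)⁻¹ * q2 ∈ Q := mul_mem (inv_mem q1.2) q2.2
  have e4 : (q1 : G)⁻¹ * q2 = 1 := by
    apply hfaith _ hmem
    intro y hy
    exact (hall _ hmem x e3 (Or.inl rfl) y hy).1 rfl
  apply hq21
  apply Subtype.ext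
  exact (inv_mul_eq_one.mp e4).symm

theorem exists_inverting_of_card_four {G : Type*} [Group G] (P Q : Subgroup G)
    (hP : Nat.card P = 9) (hQ : Nat.card Q = 4) (hQP : Q ≤ normalizer (P : Set G))
    (hfaith : ∀ q ∈ Q, (∀ x ∈ P, q * x * q⁻¹ = x) → q = 1) :
    (∀ x ∈ P, x ^ 3 = 1) ∧ ∃ r ∈ Q, ∀ x ∈ P, r * x * r⁻¹ = x⁻¹ := by
  have hexp := g3c_exp P Q hP hQ hQP hfaith
  refine ⟨hexp, ?_⟩
  have hfinP : Finite P := Nat.finite_of_card_ne_zero (by omega)
  have hfinQ : Finite Q := Nat.finite_of_card_ne_zero (by omega)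
  have hp3 : Fact (Nat.Prime 3) := ⟨Nat.prime_three⟩
  have hp2 : Fact (Nat.Prime 2) := ⟨Nat.prime_two⟩
  have hnorm : ∀ q ∈ Q, ∀ y ∈ P, q * y * q⁻¹ ∈ P :=
    fun q hq y hy => (Subgroup.mem_normalizer_iff.mp (hQP hq) y).mp hy
  have hPc : ∀ x ∈ P, ∀ y ∈ P, x * y = y * x := by
    have hmc : IsMulCommutative P :=
      IsPGroup.isMulCommutative_of_card_eq_prime_sq (p := 3) (by rw [hP]; norm_num)
    intro x hx y hy
    have := hmc.is_comm.comm (⟨x, hx⟩ : P) ⟨y, hy⟩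
    exact congrArg Subtype.val this
  have hQc : ∀ x ∈ Q, ∀ y ∈ Q, x * y = y * x := by
    have hmc : IsMulCommutative Q :=
      IsPGroup.isMulCommutative_of_card_eq_prime_sq (p := 2) (by rw [hQ]; norm_num)
    intro x hx y hy
    have := hmc.is_comm.comm (⟨x, hx⟩ : Q) ⟨y, hy⟩
    exact congrArg Subtype.val this
  -- `w = w⁻¹` forces `w = 1` in `P`
  have hsq : ∀ w ∈ P, w = w⁻¹ → w = 1 := by
    intro w hw h
    have hw3 := hexp w hw
    have hww : w * w = 1 := by nth_rewrite 1 [h]; exact inv_mul_cancel w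
    calc w = w ^ 3 * (w * w)⁻¹ := by group
      _ = 1 := by rw [hw3, hww]; simp
  -- an involution of `Q`
  obtain ⟨α', hα'⟩ := exists_prime_orderOf_dvd_card' (G := Q) 2 (by rw [hQ]; norm_num)
  obtain ⟨α, hαQ⟩ := α'
  have hαo : orderOf α = 2 := by rw [← hα', Subgroup.orderOf_mk]
  have hα2 : α * α = 1 := by
    have := pow_orderOf_eq_one α
    rw [hαo, pow_two] at this
    exact this
  have hα1 : α ≠ 1 := by
    intro h; rw [h, orderOf_one] at hαo; omega
  have hαinv : α⁻¹ = α := inv_eq_of_mul_eq_one_right hα2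
  by_cases hA : ∀ x ∈ P, α * x * α⁻¹ = x⁻¹
  · exact ⟨α, hαQ, hA⟩
  push Not at hA
  obtain ⟨x0, hx0, hx0'⟩ := hA
  -- the element `u`, fixed by `α`
  obtain ⟨u, huP, hu1, huα⟩ : ∃ u ∈ P, u ≠ 1 ∧ α * u * α⁻¹ = u := by
    refine ⟨x0 * (α * x0 * α⁻¹), mul_mem hx0 (hnorm α hαQ x0 hx0), ?_, ?_⟩
    · intro h; apply hx0'
      exact eq_inv_of_mul_eq_one_right h
    · have : α * (x0 * (α * x0 * α⁻¹)) * α⁻¹
          = (α * x0 * α⁻¹) * (α * α * x0 * (α * α)⁻¹) := by group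
      rw [this, hα2]
      simp only [one_mul, inv_one, mul_one]
      exact hPc _ (hnorm α hαQ x0 hx0) _ hx0
  obtain ⟨y0, hy0, hy0'⟩ : ∃ y0 ∈ P, α * y0 * α⁻¹ ≠ y0 := by
    by_contra h; push Not at h; exact hα1 (hfaith α hαQ h)
  -- the element `v`, inverted by `α`
  obtain ⟨v, hvP, hv1, hvα⟩ : ∃ v ∈ P, v ≠ 1 ∧ α * v * α⁻¹ = v⁻¹ := by
    refine ⟨y0 * (α * y0 * α⁻¹)⁻¹, mul_mem hy0 (inv_mem (hnorm α hαQ y0 hy0)), ?_, ?_⟩
    · intro h; apply hy0'
      exact (mul_inv_eq_one.mp h).symm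
    · have : α * (y0 * (α * y0 * α⁻¹)⁻¹) * α⁻¹
          = (α * y0 * α⁻¹) * (α * α * y0 * (α * α)⁻¹)⁻¹ := by group
      rw [this, hα2]
      simp only [one_mul, inv_one, mul_one, mul_inv_rev, inv_inv]
  have hu3 : u ^ 3 = 1 := hexp u huP
  have hv3 : v ^ 3 = 1 := hexp v hvP
  have hou : orderOf u = 3 := orderOf_eq_prime hu3 hu1
  have hov : orderOf v = 3 := orderOf_eq_prime hv3 hv1
  have huv : u * v = v * u := hPc u huP v hvP
  -- conjugation by `α` on `u ^ i * v ^ j`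
  have hαuv : ∀ i j : ℕ, α * (u ^ i * v ^ j) * α⁻¹ = u ^ i * (v ^ j)⁻¹ := by
    intro i j
    rw [← conj_mul, ← conj_pow, ← conj_pow, huα, hvα, inv_pow]
  -- decomposition of `P`
  have hdec : ∀ x ∈ P, ∃ i j : ℕ, i < 3 ∧ j < 3 ∧ x = u ^ i * v ^ j := by
    let f : Fin 3 × Fin 3 → P := fun ij =>
      ⟨u ^ (ij.1 : ℕ) * v ^ (ij.2 : ℕ), mul_mem (pow_mem huP _) (pow_mem hvP _)⟩
    have hinj : Function.Injective f := by
      rintro ⟨i, j⟩ ⟨i', j'⟩ h
      have h' : u ^ (i : ℕ) * v ^ (j : ℕ) = u ^ (i' : ℕ) * v ^ (j' : ℕ) :=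
        congrArg Subtype.val h
      -- `w = u ^ (i - i') = v ^ (j' - j)`
      have hw : u ^ ((i : ℤ) - i') = v ^ ((j' : ℤ) - j) := by
        have e1 : u ^ ((i : ℤ) - i') = (u ^ (i' : ℕ))⁻¹ * u ^ (i : ℕ) := by
          rw [sub_eq_neg_add, zpow_add, zpow_neg, zpow_natCast, zpow_natCast]
        have e2 : v ^ ((j' : ℤ) - j) = v ^ (j' : ℕ) * (v ^ (j : ℕ))⁻¹ := by
          rw [sub_eq_add_neg, zpow_add, zpow_neg, zpow_natCast, zpow_natCast]
        rw [e1, e2]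
        have : (u ^ (i' : ℕ))⁻¹ * (u ^ (i : ℕ) * v ^ (j : ℕ)) * (v ^ (j : ℕ))⁻¹
            = (u ^ (i' : ℕ))⁻¹ * (u ^ (i' : ℕ) * v ^ (j' : ℕ)) * (v ^ (j : ℕ))⁻¹ := by rw [h']
        simpa [mul_assoc] using this
      have hwP : u ^ ((i : ℤ) - i') ∈ P := zpow_mem huP _
      have hfix : α * u ^ ((i : ℤ) - i') * α⁻¹ = u ^ ((i : ℤ) - i') := by
        rw [← conj_zpow, huα]
      have hinv : α * u ^ ((i : ℤ) - i') * α⁻¹ = (u ^ ((i : ℤ) - i'))⁻¹ := by
        rw [hw, ← conj_zpow, hvα, inv_zpow]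
      have hw1 : u ^ ((i : ℤ) - i') = 1 := hsq _ hwP (hfix.symm.trans hinv)
      have hw2 : v ^ ((j' : ℤ) - j) = 1 := by rw [← hw]; exact hw1
      have d1 : ((orderOf u : ℕ) : ℤ) ∣ (i : ℤ) - i' := orderOf_dvd_iff_zpow_eq_one.mpr hw1
      have d2 : ((orderOf v : ℕ) : ℤ) ∣ (j' : ℤ) - j := orderOf_dvd_iff_zpow_eq_one.mpr hw2
      rw [hou] at d1
      rw [hov] at d2
      have hi := i.2
      have hi' := i'.2
      have hj := j.2
      have hj' := j'.2
      have ei : (i : ℕ) = i' := by omega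
      have ej : (j : ℕ) = j' := by omega
      exact Prod.ext (Fin.ext ei) (Fin.ext ej)
    have hbij : Function.Bijective f := by
      apply hinj.bijective_of_nat_card_le
      rw [hP, Nat.card_prod, Nat.card_fin]
    intro x hx
    obtain ⟨⟨i, j⟩, hij⟩ := hbij.2 ⟨x, hx⟩
    exact ⟨i, j, i.2, j.2, (congrArg Subtype.val hij).symm⟩
  -- elements of `Q` act by signs on `u` and on `v`
  have hsign : ∀ q ∈ Q, (q * u * q⁻¹ = u ∨ q * u * q⁻¹ = u⁻¹) ∧
      (q * v * q⁻¹ = v ∨ q * v * q⁻¹ = v⁻¹) := by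
    intro q hq
    have hαq : α * q = q * α := hQc α hαQ q hq
    have hswap : ∀ z : G, α * (q * z * q⁻¹) * α⁻¹ = q * (α * z * α⁻¹) * q⁻¹ := by
      intro z
      calc α * (q * z * q⁻¹) * α⁻¹ = (α * q) * z * (α * q)⁻¹ := by group
        _ = (q * α) * z * (q * α)⁻¹ := by rw [hαq]
        _ = q * (α * z * α⁻¹) * q⁻¹ := by group
    constructor
    · have hyP := hnorm q hq u huP
      obtain ⟨i, j, hi, hj, hy⟩ := hdec _ hyP
      have h1 : α * (q * u * q⁻¹) * α⁻¹ = q * u * q⁻¹ := by rw [hswap, huα]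
      rw [hy, hαuv] at h1
      have h2 : (v ^ j)⁻¹ = v ^ j := mul_left_cancel h1
      have h3 : v ^ j = 1 := hsq _ (pow_mem hvP _) h2.symm
      rw [h3, mul_one] at hy
      interval_cases i
      · exfalso; apply hu1
        rw [pow_zero] at hy
        have : u = q⁻¹ * (q * u * q⁻¹) * q := by group
        rw [this, hy]; group
      · left; rw [hy, pow_one]
      · right; rw [hy]
        exact eq_inv_of_mul_eq_one_left (by rw [← pow_succ, hu3])
    · have hyP := hnorm q hq v hvP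
      obtain ⟨i, j, hi, hj, hy⟩ := hdec _ hyP
      have h1 : α * (q * v * q⁻¹) * α⁻¹ = (q * v * q⁻¹)⁻¹ := by
        rw [hswap, hvα, conj_inv]
      rw [hy, hαuv] at h1
      have hc : u ^ i * v ^ j = v ^ j * u ^ i :=
        hPc _ (pow_mem huP _) _ (pow_mem hvP _)
      have h2 : u ^ i = (u ^ i)⁻¹ := by
        have : u ^ i * (v ^ j)⁻¹ = (u ^ i)⁻¹ * (v ^ j)⁻¹ := by
          rw [h1, hc, mul_inv_rev]
        exact mul_right_cancel this
      have h3 : u ^ i = 1 := hsq _ (pow_mem huP _) h2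
      rw [h3, one_mul] at hy
      interval_cases j
      · exfalso; apply hv1
        rw [pow_zero] at hy
        have : v = q⁻¹ * (q * v * q⁻¹) * q := by group
        rw [this, hy]; group
      · left; rw [hy, pow_one]
      · right; rw [hy]
        exact eq_inv_of_mul_eq_one_left (by rw [← pow_succ, hv3])
  -- an element fixing `u`, `v` centralizes `P`; one inverting both inverts `P`
  have hcent : ∀ r : G, r * u * r⁻¹ = u → r * v * r⁻¹ = v → ∀ x ∈ P, r * x * r⁻¹ = x := by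
    intro r h1 h2 x hx
    obtain ⟨i, j, -, -, rfl⟩ := hdec x hx
    rw [← conj_mul, ← conj_pow, ← conj_pow, h1, h2]
  have hinvt : ∀ r : G, r * u * r⁻¹ = u⁻¹ → r * v * r⁻¹ = v⁻¹ →
      ∀ x ∈ P, r * x * r⁻¹ = x⁻¹ := by
    intro r h1 h2 x hx
    obtain ⟨i, j, -, -, rfl⟩ := hdec x hx
    rw [← conj_mul, ← conj_pow, ← conj_pow, h1, h2, inv_pow, inv_pow,
      hPc _ (pow_mem huP _) _ (pow_mem hvP _), mul_inv_rev]
  have hmulα : ∀ q z : G, (q * α) * z * (q * α)⁻¹ = q * (α * z * α⁻¹) * q⁻¹ := by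
    intro q z; group
  -- a third element of `Q`
  obtain ⟨q', hq1, hqα⟩ := exists_ne_ne (α := Q) (by rw [hQ]; norm_num) 1 ⟨α, hαQ⟩
  obtain ⟨q, hqQ⟩ := q'
  have hq1' : q ≠ 1 := fun h => hq1 (Subtype.ext h)
  have hqα' : q ≠ α := fun h => hqα (Subtype.ext h)
  obtain ⟨hsu, hsv⟩ := hsign q hqQ
  rcases hsu with hsu | hsu <;> rcases hsv with hsv | hsv
  · exact absurd (hfaith q hqQ (hcent q hsu hsv)) hq1'
  · exfalso
    apply hqα'
    have h1 : (q * α) * u * (q * α)⁻¹ = u := by rw [hmulα, huα, hsu]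
    have h2 : (q * α) * v * (q * α)⁻¹ = v := by rw [hmulα, hvα, ← conj_inv, hsv, inv_inv]
    have h3 : q * α = 1 := hfaith _ (mul_mem hqQ hαQ) (hcent _ h1 h2)
    rw [← hαinv]
    exact eq_inv_of_mul_eq_one_left h3
  · refine ⟨q * α, mul_mem hqQ hαQ, hinvt _ ?_ ?_⟩
    · rw [hmulα, huα, hsu]
    · rw [hmulα, hvα, ← conj_inv, hsv]
  · exact ⟨q, hqQ, hinvt q hsu hsv⟩

end Cfsg.Agent.H59.M11
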