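import Mathlib

/-!
# S0435-G3D: if all nonidentity elements of a Sylow 3-subgroup of order 9 are conjugate,
then 8 divides the order of its normalizer
-/

set_option autoImplicit false

open Subgroup

namespace Cfsg.Agent.H59.M11

theorem eight_dvd_normalizer {G : Type*} [Group G] [Finite G] (P : Sylow 3 G)
    (hP : Nat.card P = 9)
    (hconj : ∀ x ∈ (P : Subgroup G), ∀ y ∈ (P : Subgroup G), x ≠ 1 → y ≠ 1 → IsConj x y) :
    8 ∣ Nat.card (normalizer ((P : Subgroup G) : Set G)) := by
  classical
  have : Fact (Nat.Prime 3) := ⟨Nat.prime_three⟩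
  have hmc : IsMulCommutative (P : Subgroup G) :=
    IsPGroup.isMulCommutative_of_card_eq_prime_sq (p := 3) (by rw [hP]; norm_num)
  -- a nonidentity element
  obtain ⟨x0, hx0P, hx0⟩ : ∃ x0 ∈ (P : Subgroup G), x0 ≠ 1 := by
    by_contra hne
    push Not at hne
    have : (P : Subgroup G) = ⊥ := (Subgroup.eq_bot_iff_forall _).mpr hne
    have h1 : Nat.card (P : Subgroup G) = 1 := by rw [this]; exact Subgroup.card_bot
    rw [hP] at h1; omega
  set N : Subgroup G := normalizer ((P : Subgroup G) : Set G) with hN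
  -- the conjugation action of `N` on `G`
  let _ : MulAction N G := MulAction.compHom G ((MulAut.conj : G →* MulAut G).comp N.subtype)
  have hsmul : ∀ (n : N) (x : G), n • x = (n : G) * x * (n : G)⁻¹ := fun n x => rfl
  have horb : MulAction.orbit N x0 = ((P : Subgroup G) : Set G) \ {1} := by
    ext y
    constructor
    · rintro ⟨n, rfl⟩
      change n • x0 ∈ _
      rw [hsmul]
      refine ⟨?_, ?_⟩
      · exact (Subgroup.mem_normalizer_iff.mp n.2 x0).mp hx0P
      · intro h
        apply hx0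
        have h' : (n : G) * x0 * (n : G)⁻¹ = 1 := h
        have : x0 = (n : G)⁻¹ * ((n : G) * x0 * (n : G)⁻¹) * (n : G) := by group
        rw [this, h']; group
    · rintro ⟨hyP, hy1⟩
      have hy1' : y ≠ 1 := hy1
      obtain ⟨c, hc⟩ := isConj_iff.mp (hconj x0 hx0P y hyP hx0 hy1')
      have hyP' : (c⁻¹)⁻¹ * x0 * c⁻¹ ∈ (P : Subgroup G) := by
        rw [inv_inv, hc]; exact hyP
      obtain ⟨n, hn, hn'⟩ := P.conj_eq_normalizer_conj_of_mem x0 c⁻¹ hx0P hyP'
      refine ⟨⟨n⁻¹, inv_mem hn⟩, ?_⟩
      change (⟨n⁻¹, inv_mem hn⟩ : N) • x0 = y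
      rw [hsmul]
      simp only [inv_inv]
      rw [← hn', inv_inv, hc]
  have hcard : (MulAction.orbit N x0).ncard = 8 := by
    rw [horb, Set.ncard_sdiff_singleton_of_mem (one_mem _), ← Nat.card_coe_set_eq]
    have : Nat.card ((P : Subgroup G) : Set G) = 9 := hP
    rw [this]
  have key : (MulAction.stabilizer N x0).index = 8 := by
    rw [MulAction.index_stabilizer, hcard]
  rw [← key]
  exact Subgroup.index_dvd_card _

end Cfsg.Agent.H59.M11
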