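import Mathlib
import Cfsg.Agent.H93.M11Main

/-!
# S0435-G3E: in a simple group of order 7920 the centralizer of an element of order 3 has
order dividing 144
-/

set_option autoImplicit false

open Subgroup

namespace Cfsg.Agent.H59.M11

/-- If Sylow `p`-subgroups have order `p` and their centralizers have order `p`, then an
element commuting with an element of order `p` has order dividing `p`. -/
theorem orderOf_dvd_of_commute_prime {G : Type*} [Group G] [Finite G] (p : ℕ) [Fact p.Prime]
    (hS : ∀ P : Sylow p G, Nat.card (P : Subgroup G) = p)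
    (hC : ∀ P : Sylow p G, Nat.card (centralizer ((P : Subgroup G) : Set G)) = p)
    (x y : G) (hy : orderOf y = p) (hxy : x * y = y * x) : orderOf x ∣ p := by
  have hpg : IsPGroup p (zpowers y) := by
    apply IsPGroup.of_card (n := 1)
    rw [Nat.card_zpowers, hy, pow_one]
  obtain ⟨P, hP⟩ := hpg.exists_le_sylow
  have heq : zpowers y = (P : Subgroup G) := by
    apply Subgroup.eq_of_le_of_card_ge hP
    rw [hS P, Nat.card_zpowers, hy]
  have hx : x ∈ centralizer ((P : Subgroup G) : Set G) := by
    rw [← heq]
    rw [Subgroup.mem_centralizer_iff]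
    intro z hz
    obtain ⟨k, rfl⟩ := Subgroup.mem_zpowers_iff.mp hz
    exact ((Commute.zpow_left (show Commute y x from hxy.symm) k)).eq
  have h1 : orderOf (⟨x, hx⟩ : centralizer ((P : Subgroup G) : Set G)) ∣
      Nat.card (centralizer ((P : Subgroup G) : Set G)) := orderOf_dvd_natCard _
  rw [hC P, Subgroup.orderOf_mk] at h1
  exact h1

theorem centralizer_order3_dvd {G : Type*} [Group G] [Finite G] [IsSimpleGroup G]
    (hG : Nat.card G = 7920) (x : G) (hx : orderOf x = 3) :
    Nat.card (centralizer ({x} : Set G)) ∣ 144 := by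
  have h5 : Fact (Nat.Prime 5) := ⟨by norm_num⟩
  have h11 : Fact (Nat.Prime 11) := ⟨by norm_num⟩
  have hdvd : Nat.card (centralizer ({x} : Set G)) ∣ 144 * 55 := by
    have := Subgroup.card_subgroup_dvd_card (centralizer ({x} : Set G))
    rw [hG] at this
    exact this
  have hno : ∀ p : ℕ, p.Prime → (p = 5 ∨ p = 11) →
      ¬ p ∣ Nat.card (centralizer ({x} : Set G)) := by
    intro p hp hp' hdiv
    have : Fact p.Prime := ⟨hp⟩
    obtain ⟨y, hy⟩ := exists_prime_orderOf_dvd_card' (G := centralizer ({x} : Set G)) p hdiv
    have hy' : orderOf (y : G) = p := by rw [Subgroup.orderOf_coe, hy]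
    have hcomm : x * (y : G) = (y : G) * x := by
      have := y.2
      rw [Subgroup.mem_centralizer_iff] at this
      exact this x (Set.mem_singleton x)
    have h3 : orderOf x ∣ p := by
      rcases hp' with rfl | rfl
      · exact orderOf_dvd_of_commute_prime 5
          (fun P => Cfsg.Agent.H93.M11.sylow5_card hG P)
          (fun P => (Cfsg.Agent.H93.M11.sylow5_data hG P).2) x y hy' hcomm
      · exact orderOf_dvd_of_commute_prime 11
          (fun P => Cfsg.Agent.H93.M11.sylow11_card' hG P)
          (fun P => (Cfsg.Agent.H5.Ord7920.sylow11_simple hG P).2.2) x y hy' hcomm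
    rw [hx] at h3
    rcases hp' with rfl | rfl <;> omega
  have hcop : Nat.Coprime (Nat.card (centralizer ({x} : Set G))) 55 := by
    have h55 : (55 : ℕ) = 5 * 11 := by norm_num
    rw [h55]
    apply Nat.Coprime.mul_right
    · exact Nat.Coprime.symm ((Nat.Prime.coprime_iff_not_dvd (by norm_num)).mpr
        (hno 5 (by norm_num) (Or.inl rfl)))
    · exact Nat.Coprime.symm ((Nat.Prime.coprime_iff_not_dvd (by norm_num)).mpr
        (hno 11 (by norm_num) (Or.inr rfl)))
  exact hcop.dvd_of_dvd_mul_right hdvd

end Cfsg.Agent.H59.M11
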