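import Cfsg.Agent.H4.TwoTrans
import Cfsg.Prelude.Def_DegreeGraph

set_option autoImplicit false
set_option linter.unusedSectionVars false
set_option linter.style.haveILetI false

/-! A difference of two permutation characters that is irreducible:
if `G` acts transitively on `X` with rank `3`, `2`-transitively on `Y`, and has exactly two
orbits on `X × Y`, then `π_X - π_Y` is an irreducible character (of degree `|X| - |Y|`). -/

namespace Cfsg.Agent.H59.PermDiff

open Cfsg Cfsg.Agent.H4

universe u v w

open scoped ComplexConjugate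

section

variable {G : Type u} [Group G] [Finite G]

theorem card_fixedBy_prod2 (X : Type v) (Y : Type w) [MulAction G X] [MulAction G Y] (g : G) :
    Nat.card (MulAction.fixedBy (X × Y) g) =
      Nat.card (MulAction.fixedBy X g) * Nat.card (MulAction.fixedBy Y g) := by
  rw [← Nat.card_prod]
  apply Nat.card_congr
  refine (Equiv.subtypeEquivRight ?_).trans
    (Equiv.subtypeProdEquivProd (p := fun x : X => g • x = x) (q := fun y : Y => g • y = y))
  intro p
  simp [MulAction.mem_fixedBy, Prod.ext_iff]

theorem permChar_isCharacter (X : Type v) [MulAction G X] [Finite X] :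
    IsCharacter G (fun g => (Nat.card (MulAction.fixedBy X g) : ℂ)) := by
  have h := isCharacter_of_rep (Representation.ofMulAction ℂ G X)
  have : (Representation.ofMulAction ℂ G X).character =
      fun g => (Nat.card (MulAction.fixedBy X g) : ℂ) := by
    ext g; exact character_ofMulAction g
  rwa [this] at h

theorem classInner_permChar [Fintype G] (X : Type v) (Y : Type w) [MulAction G X] [MulAction G Y]
    [Finite X] [Finite Y] :
    classInner (fun g : G => (Nat.card (MulAction.fixedBy X g) : ℂ))
        (fun g : G => (Nat.card (MulAction.fixedBy Y g) : ℂ)) =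
      (Nat.card (Quotient (MulAction.orbitRel G (X × Y))) : ℂ) := by
  have hN : (Nat.card G : ℂ) ≠ 0 := (neZero_card_complex G).out
  unfold classInner
  have : ∀ g : G, (Nat.card (MulAction.fixedBy X g) : ℂ) *
      conj ((Nat.card (MulAction.fixedBy Y g) : ℂ)) =
        (Nat.card (MulAction.fixedBy (X × Y) g) : ℂ) := by
    intro g
    rw [Complex.conj_natCast, card_fixedBy_prod2]
    push_cast; rfl
  simp only [this]
  rw [sum_card_fixedBy, mul_comm, mul_assoc, mul_inv_cancel₀ hN, mul_one]

theorem classInner_permChar_one [Fintype G] (X : Type v) [MulAction G X] [Finite X] :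
    classInner (fun g : G => (Nat.card (MulAction.fixedBy X g) : ℂ)) (trivialIrr G).1 =
      (Nat.card (Quotient (MulAction.orbitRel G X)) : ℂ) := by
  have hN : (Nat.card G : ℂ) ≠ 0 := (neZero_card_complex G).out
  unfold classInner
  have : ∀ g : G, (Nat.card (MulAction.fixedBy X g) : ℂ) * conj ((trivialIrr G).1 g) =
      (Nat.card (MulAction.fixedBy X g) : ℂ) := by
    intro g; simp [trivialIrr]
  simp only [this]
  rw [sum_card_fixedBy, mul_comm, mul_assoc, mul_inv_cancel₀ hN, mul_one]

/-- The irreducibility criterion for a difference of permutation characters. -/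
theorem isIrrCharacter_perm_sub_perm (X : Type v) (Y : Type w) [MulAction G X] [MulAction G Y]
    [Finite X] [Finite Y] [MulAction.IsPretransitive G X] [MulAction.IsPretransitive G Y]
    [Nonempty X] (hY : 2 ≤ Nat.card Y)
    (h2 : MulAction.IsMultiplyPretransitive G Y 2)
    (hXX : Nat.card (Quotient (MulAction.orbitRel G (X × X))) = 3)
    (hXY : Nat.card (Quotient (MulAction.orbitRel G (X × Y))) = 2) :
    IsIrrCharacter G (fun g => (Nat.card (MulAction.fixedBy X g) : ℂ) -
      (Nat.card (MulAction.fixedBy Y g) : ℂ)) := by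
  classical
  haveI := Fintype.ofFinite G
  have hY1 : 1 < Nat.card Y := hY
  haveI : Nontrivial Y := (Finite.one_lt_card_iff_nontrivial).mp hY1
  set πX : G → ℂ := fun g => (Nat.card (MulAction.fixedBy X g) : ℂ) with hπX
  set πY : G → ℂ := fun g => (Nat.card (MulAction.fixedBy Y g) : ℂ) with hπY
  set one : G → ℂ := (trivialIrr G).1 with hone
  have hXchar : IsCharacter G πX := permChar_isCharacter X
  -- inner products
  have hX1 : classInner πX one = 1 := by
    rw [hπX, hone, classInner_permChar_one, card_orbits_eq_one]; simp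
  have hY1' : classInner πY one = 1 := by
    rw [hπY, hone, classInner_permChar_one, card_orbits_eq_one]; simp
  have h1Y : classInner one πY = 1 := by
    rw [← classInner_conj_symm, hY1', map_one]
  have h1X : classInner one πX = 1 := by
    rw [← classInner_conj_symm, hX1, map_one]
  have h11 : classInner one one = 1 := irr_inner_self _
  have hXXc : classInner πX πX = 3 := by
    rw [hπX, classInner_permChar, hXX]; norm_num
  have hXYc : classInner πX πY = 2 := by
    rw [hπX, hπY, classInner_permChar, hXY]; norm_num
  have hYXc : classInner πY πX = 2 := by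
    rw [← classInner_conj_symm, hXYc]
    exact map_ofNat (starRingEnd ℂ) 2
  have hYYc : classInner πY πY = 2 := by
    rw [hπY, classInner_permChar, (card_orbits_prod_eq_two_iff Y hY).mpr h2]; norm_num
  -- γ = πY - 1 is irreducible
  have hγ : IsIrrCharacter G (fun g => (Nat.card (MulAction.fixedBy Y g) : ℂ) - 1) :=
    (isIrrCharacter_perm_sub_one_iff Y hY).mpr h2
  have hγeq : (fun g => (Nat.card (MulAction.fixedBy Y g) : ℂ) - 1) = πY - one := by
    ext g; simp [hπY, hone, trivialIrr]
  rw [hγeq] at hγ
  -- θ = πX - 1 is a character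
  have hθ : IsCharacter G (πX - one) :=
    isCharacter_sub_irr hXchar (trivialIrr G) (by rw [← hone, hX1]; exact one_ne_zero)
  have hθγ : classInner (πX - one) (πY - one) = 1 := by
    rw [classInner_sub_left, classInner_sub_right, classInner_sub_right, hXYc, hX1, h1Y, h11]
    ring
  have hχ : IsCharacter G ((πX - one) - (πY - one)) :=
    isCharacter_sub_irr hθ ⟨πY - one, hγ⟩ (by
      show classInner (πX - one) (πY - one) ≠ 0
      rw [hθγ]; exact one_ne_zero)
  have hχeq : (πX - one) - (πY - one) = πX - πY := by
    funext g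
    show πX g - one g - (πY g - one g) = πX g - πY g
    ring
  rw [hχeq] at hχ
  have hnorm : classInner (πX - πY) (πX - πY) = 1 := by
    rw [classInner_sub_left, classInner_sub_right, classInner_sub_right, hXXc, hXYc, hYXc, hYYc]
    ring
  have hfin : (fun g => (Nat.card (MulAction.fixedBy X g) : ℂ) -
      (Nat.card (MulAction.fixedBy Y g) : ℂ)) = πX - πY := by
    ext g; simp [hπX, hπY]
  rw [hfin]
  exact isIrrCharacter_of_norm_one hχ hnorm

theorem card_fixedBy_one (X : Type v) [MulAction G X] :
    Nat.card (MulAction.fixedBy X (1 : G)) = Nat.card X := by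
  apply Nat.card_congr
  exact (Equiv.subtypeUnivEquiv (fun x => by simp))

/-- the degree statement -/
theorem mem_charDegrees_perm_sub_perm (X : Type v) (Y : Type w) [MulAction G X] [MulAction G Y]
    [Finite X] [Finite Y] [MulAction.IsPretransitive G X] [MulAction.IsPretransitive G Y]
    [Nonempty X] (hY : 2 ≤ Nat.card Y)
    (h2 : MulAction.IsMultiplyPretransitive G Y 2)
    (hXX : Nat.card (Quotient (MulAction.orbitRel G (X × X))) = 3)
    (hXY : Nat.card (Quotient (MulAction.orbitRel G (X × Y))) = 2)
    (n : ℕ) (hn : Nat.card X = n + Nat.card Y) :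
    n ∈ Cfsg.charDegrees G := by
  refine ⟨⟨_, isIrrCharacter_perm_sub_perm X Y hY h2 hXX hXY⟩, ?_⟩
  show Cfsg.charDegree (fun g : G => (Nat.card (MulAction.fixedBy X g) : ℂ) -
      (Nat.card (MulAction.fixedBy Y g) : ℂ)) = n
  unfold Cfsg.charDegree
  beta_reduce
  rw [card_fixedBy_one, card_fixedBy_one, hn]
  have : ((n + Nat.card Y : ℕ) : ℂ) - (Nat.card Y : ℂ) = (n : ℂ) := by push_cast; ring
  rw [this]
  simp

/-- the degree statement for a `2`-transitive action -/
theorem mem_charDegrees_perm_sub_one (X : Type v) [MulAction G X] [Finite X]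
    [MulAction.IsPretransitive G X] (hX : 2 ≤ Nat.card X)
    (h2 : MulAction.IsMultiplyPretransitive G X 2) (n : ℕ) (hn : Nat.card X = n + 1) :
    n ∈ Cfsg.charDegrees G := by
  refine ⟨⟨_, (isIrrCharacter_perm_sub_one_iff X hX).mpr h2⟩, ?_⟩
  show Cfsg.charDegree (fun g : G => (Nat.card (MulAction.fixedBy X g) : ℂ) - 1) = n
  unfold Cfsg.charDegree
  beta_reduce
  rw [card_fixedBy_one, hn]
  have : ((n + 1 : ℕ) : ℂ) - 1 = (n : ℂ) := by push_cast; ring
  rw [this]
  simp

end

end Cfsg.Agent.H59.PermDiff
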