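import Mathlib
import Cfsg.Prelude.Def_Blocks
import Cfsg.Agent.H59.PrimeDegC
import Cfsg.Agent.H4.IrrCount
import Cfsg.Agent.H4.PSection2
import Cfsg.Agent.H78.BL5

/-!
# No simple group has all nonlinear irreducible characters of prime degree (helper59)
-/

set_option autoImplicit false
set_option linter.unusedSectionVars false
set_option linter.style.haveILetI false

namespace Cfsg.Agent.H59.PD

open Cfsg Cfsg.Agent.H4
open scoped ComplexConjugate

universe u

variable {G : Type u} [Group G] [Finite G]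

theorem isPPart_self (p : ℕ) (hp : 1 < p) (y : G) (k : ℕ) (hy : orderOf y = p ^ k) :
    Cfsg.IsPPart p y y :=
  ⟨1, mul_one y, Commute.one_right y, ⟨k, hy⟩, by
    rw [orderOf_one]; exact Nat.not_dvd_of_pos_of_lt one_pos hp⟩

/-- The transitive case `|N(P) : C(P)| = p - 1`. -/
theorem false_of_trans (p : ℕ) (P : Subgroup G) (y₀ : G) (hy₀1 : y₀ ≠ 1)
    (htrans : ∀ y ∈ P, y ≠ 1 → ∃ n : G, n * y₀ * n⁻¹ = y)
    (hK : ∀ χ : IrrCharacter G, χ.1 ≠ (fun _ => 1) → ∀ c : ℂ,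
      (∀ y ∈ P, y ≠ 1 → χ.1 y = c) → c = 0 ∨ (p = 3 ∧ charDegree χ.1 = 2 ∧ c = -1)) :
    False := by
  classical
  haveI := Fintype.ofFinite G
  letI := fintypeIrr G
  have hcol := column_orthogonality (G := G) y₀ 1
  have hempty : IsEmpty {c : G // c * y₀ * c⁻¹ = 1} := ⟨fun ⟨c, hc⟩ => hy₀1 (by
    have := congrArg (fun t => c⁻¹ * t * c) hc
    simpa [mul_assoc] using this)⟩
  rw [Nat.card_of_isEmpty, Nat.cast_zero, finsum_irr_eq_sum] at hcol
  have hterm : ∀ χ : IrrCharacter G, χ ≠ trivialIrr G → ∃ t : ℤ,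
      χ.1 y₀ * conj (χ.1 1) = ((2 * t : ℤ) : ℂ) := by
    intro χ hχ
    have hχ' : χ.1 ≠ fun _ => 1 := fun h1 => hχ (Subtype.ext h1)
    have hconst : ∀ y ∈ P, y ≠ 1 → χ.1 y = χ.1 y₀ := by
      intro y hy hy1
      obtain ⟨n, rfl⟩ := htrans y hy hy1
      exact Cfsg.Agent.H82.irr_conj χ y₀ n
    rcases hK χ hχ' (χ.1 y₀) hconst with h0 | ⟨-, h2, h3⟩
    · exact ⟨0, by rw [h0]; simp⟩
    · refine ⟨-1, ?_⟩
      rw [h3, Cfsg.Agent.H82.irr_one_eq_charDegree χ, h2, Complex.conj_natCast]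
      push_cast
      ring
  choose! t ht using hterm
  rw [← Finset.add_sum_erase Finset.univ _ (Finset.mem_univ (trivialIrr G))] at hcol
  have h1 : ((trivialIrr G : IrrCharacter G) : G → ℂ) y₀ *
      conj (((trivialIrr G : IrrCharacter G) : G → ℂ) 1) = 1 := by simp [trivialIrr]
  rw [h1, Finset.sum_congr rfl (fun χ hχ => ht χ (Finset.ne_of_mem_erase hχ))] at hcol
  have h2 : (1 : ℤ) + 2 * ∑ χ ∈ Finset.univ.erase (trivialIrr G), t χ = 0 := by
    have h3 : ((1 + 2 * ∑ χ ∈ Finset.univ.erase (trivialIrr G), t χ : ℤ) : ℂ) = 0 := by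
      rw [← hcol]
      push_cast
      rw [Finset.mul_sum]
    exact_mod_cast h3
  omega

/-- The intermediate case `1 < |N(P) : C(P)| < p - 1`, by the Brauer–Leonard description of
the principal block. -/
theorem false_of_mid (hsimple : ∀ N : Subgroup G, N.Normal → N = ⊥ ∨ N = ⊤)
    (hcenter : ∀ g : G, (∀ x : G, g * x = x * g) → g = 1)
    (p : ℕ) [hp : Fact p.Prime] (P : Sylow p G) (hcard : Nat.card (P : Subgroup G) = p)
    (hcomm : ∀ a b : (P : Subgroup G), a * b = b * a)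
    (hself : ∀ y ∈ (P : Subgroup G), y ≠ 1 →
      Subgroup.centralizer ({y} : Set G) = (P : Subgroup G))
    (hcent : Subgroup.centralizer ((P : Subgroup G) : Set G) = (P : Subgroup G))
    (hm1 : 1 < (Subgroup.centralizer ((P : Subgroup G) : Set G)).relIndex
      (Subgroup.normalizer ((P : Subgroup G) : Set G)))
    (hm2 : (Subgroup.centralizer ((P : Subgroup G) : Set G)).relIndex
      (Subgroup.normalizer ((P : Subgroup G) : Set G)) + 1 < p)
    (hK : ∀ χ : IrrCharacter G, χ.1 ≠ (fun _ => 1) → ∀ c : ℂ,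
      (∀ y ∈ (P : Subgroup G), y ≠ 1 → χ.1 y = c) →
        c = 0 ∨ (p = 3 ∧ charDegree χ.1 = 2 ∧ c = -1)) :
    False := by
  classical
  obtain ⟨M, hM⟩ := Cfsg.Agent.H4.exists_isPModular hp.out
  have hab : IsMulCommutative (P : Subgroup G) := ⟨⟨hcomm⟩⟩
  have hP1 : Nat.card (P : Subgroup G) ≠ 1 := by rw [hcard]; exact hp.out.one_lt.ne'
  have hcyc := exists_gen_normalizer (P : Subgroup G) p hcard
  have hfrob : ∀ y : G, y ∈ (P : Subgroup G) → y ≠ 1 →
      Subgroup.centralizer ({y} : Set G) ⊓ Subgroup.normalizer ((P : Subgroup G) : Set G) =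
        Subgroup.centralizer ((P : Subgroup G) : Set G) := by
    intro y hy hy1
    rw [hself y hy hy1, hcent]
    exact inf_eq_left.mpr Subgroup.le_normalizer
  have hm2' : (Subgroup.centralizer ((P : Subgroup G) : Set G)).relIndex
      (Subgroup.normalizer ((P : Subgroup G) : Set G)) + 1 < Nat.card (P : Subgroup G) := by
    rw [hcard]; exact hm2
  obtain ⟨s, X, Y, hs, hB, hdisj, hX, hY, ⟨χ₁, hχ₁X, hχ₁⟩, a, d, δ, ζ, hδ, hXa, hζY, hYζ,
    hζconj, hζval, hnorm, hYeq, hrel⟩ :=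
    Cfsg.Agent.H78.BL.brauer_leonard p M hM P hab hP1 _ hm1 hm2' rfl hcyc hfrob
  have h1 : 1 < Nat.card (P : Subgroup G) := by rw [hcard]; exact hp.out.one_lt
  haveI : Nontrivial (P : Subgroup G) := Finite.one_lt_card_iff_nontrivial.mp h1
  obtain ⟨y₀', hy₀'⟩ := exists_ne (1 : (P : Subgroup G))
  have hy₀1 : (y₀' : G) ≠ 1 := fun h => hy₀' (Subtype.ext h)
  have hpp : ∀ y ∈ (P : Subgroup G), y ≠ 1 → Cfsg.IsPPart p y y := by
    intro y hy hy1
    apply isPPart_self p hp.out.one_lt y 1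
    rw [pow_one]
    have h2 : orderOf (⟨y, hy⟩ : (P : Subgroup G)) ∣ Nat.card (P : Subgroup G) :=
      orderOf_dvd_natCard _
    rw [hcard, Subgroup.orderOf_mk] at h2
    rcases (Nat.dvd_prime hp.out).mp h2 with h | h
    · exact absurd (orderOf_eq_one_iff.mp h) hy1
    · exact h
  have hXall : ∀ χ ∈ X, χ = χ₁ := by
    intro χ hχ
    by_contra hne
    have hne' : χ.1 ≠ fun _ => 1 := fun h1 => hne (Subtype.ext (h1.trans hχ₁.symm))
    obtain ⟨ha0, hav⟩ := hXa χ hχ
    have hconst : ∀ y ∈ (P : Subgroup G), y ≠ 1 → χ.1 y = (a χ : ℂ) := fun y hy hy1 =>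
      hav y y (hpp y hy hy1) hy hy1
    rcases hK χ hne' _ hconst with h0 | ⟨h3, -, -⟩
    · exact ha0 (by exact_mod_cast h0)
    · omega
  have hXeq : X = {χ₁} := Set.eq_singleton_iff_unique_mem.mpr ⟨hχ₁X, hXall⟩
  have ha1 : a χ₁ = 1 := by
    obtain ⟨-, hav⟩ := hXa χ₁ hχ₁X
    have h2 := hav y₀' y₀' (hpp y₀' y₀'.2 hy₀1) y₀'.2 hy₀1
    rw [hχ₁] at h2
    have h3 : ((a χ₁ : ℤ) : ℂ) = ((1 : ℤ) : ℂ) := by rw [Int.cast_one]; exact h2.symm
    exact_mod_cast h3
  have hYne : Y.Nonempty := by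
    have h2 : 0 < Nat.card Y := by
      rw [hY, hcard]
      exact Nat.div_pos (by omega) (by omega)
    obtain ⟨⟨η⟩, -⟩ := Nat.card_pos_iff.mp h2
    exact ⟨η.1, η.2⟩
  obtain ⟨η, hηY⟩ := hYne
  have hr := hrel η hηY 1 (by
    rw [orderOf_one]; exact Nat.not_dvd_of_pos_of_lt one_pos hp.out.one_lt)
  rw [hXeq, finsum_mem_singleton, ha1, hχ₁, Cfsg.Agent.H82.irr_one_eq_charDegree η] at hr
  have key : ∀ (r Q : ℕ) (d δ : ℤ), ((r : ℂ) * (d : ℂ) - (δ : ℂ)) * (Q : ℂ) + 1 = 0 → Q = 1 := by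
    intro r Q d δ h
    have hint : ((r : ℤ) * d - δ) * (Q : ℤ) + 1 = 0 := by exact_mod_cast h
    have hdvd : (Q : ℤ) ∣ 1 := ⟨-((r : ℤ) * d - δ), by linarith⟩
    have h2 : (Q : ℤ) ∣ ((1 : ℕ) : ℤ) := by simpa using hdvd
    exact Nat.dvd_one.mp (Int.natCast_dvd_natCast.mp h2)
  have hQ1 : charDegree η.1 = 1 := by
    apply key _ _ d δ
    simpa using hr
  have hηtriv : η.1 = fun _ => 1 := by
    by_contra hne
    exact deg_ne_one hsimple hcenter η hne hQ1
  have hη : η = χ₁ := Subtype.ext (hηtriv.trans hχ₁.symm)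
  exact Set.disjoint_left.mp hdisj hχ₁X (hη ▸ hηY)

/-- A nontrivial finite group without proper normal subgroups and with trivial centre has a
nonlinear irreducible character of non-prime degree. -/
theorem no_simple [Nontrivial G] (hsimple : ∀ N : Subgroup G, N.Normal → N = ⊥ ∨ N = ⊤)
    (hcenter : ∀ g : G, (∀ x : G, g * x = x * g) → g = 1)
    (h : ∀ χ : IrrCharacter G, charDegree χ.1 ≠ 1 → (charDegree χ.1).Prime) : False := by
  classical
  haveI := Fintype.ofFinite G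
  letI := fintypeIrr G
  haveI : Finite (IrrCharacter G) := finite_irr G
  haveI : Nonempty (IrrCharacter G) := ⟨trivialIrr G⟩
  obtain ⟨χ₀, hmax⟩ := Finite.exists_max (fun χ : IrrCharacter G => charDegree χ.1)
  have hprime : ∀ χ : IrrCharacter G, χ.1 ≠ (fun _ => 1) → (charDegree χ.1).Prime :=
    fun χ hχ => h χ (deg_ne_one hsimple hcenter χ hχ)
  have hχ₀ : χ₀.1 ≠ fun _ => 1 := by
    intro h0
    have h3 : charDegree χ₀.1 = 1 := by rw [h0]; simp [charDegree]
    have hall : ∀ χ : IrrCharacter G, χ = trivialIrr G := by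
      intro χ
      by_contra hne
      have hne' : χ.1 ≠ fun _ => 1 := fun h1 => hne (Subtype.ext h1)
      have h4 := (hprime χ hne').two_le
      have h2 : charDegree χ.1 ≤ charDegree χ₀.1 := hmax χ
      omega
    have hsq := sum_irr_sq (G := G)
    rw [finsum_irr_eq_sum] at hsq
    have huniv : (Finset.univ : Finset (IrrCharacter G)) = {trivialIrr G} :=
      Finset.eq_singleton_iff_unique_mem.mpr ⟨Finset.mem_univ _, fun χ _ => hall χ⟩
    rw [huniv, Finset.sum_singleton] at hsq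
    have h5 : ((1 : ℕ) : ℂ) = (Nat.card G : ℂ) := by rw [← hsq]; simp [trivialIrr]
    have h6 : 1 = Nat.card G := by exact_mod_cast h5
    have h7 : 1 < Nat.card G := Finite.one_lt_card
    omega
  obtain ⟨p, hdeg⟩ : ∃ p, charDegree χ₀.1 = p := ⟨_, rfl⟩
  have hp : p.Prime := hdeg ▸ hprime χ₀ hχ₀
  haveI : Fact p.Prime := ⟨hp⟩
  obtain ⟨P⟩ : Nonempty (Sylow p G) := inferInstance
  have hcard := sylow_card hsimple hcenter χ₀ hχ₀ p hdeg P
  have hcomm := sylow_comm hsimple hcenter χ₀ hχ₀ p hdeg P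
  have hself := fun y hy hy1 => centralizer_eq hsimple hcenter χ₀ hχ₀ p hdeg P y hy hy1
  have hcent := centralizer_sylow hsimple hcenter χ₀ hχ₀ p hdeg P
  have h1 : 1 < Nat.card (P : Subgroup G) := by rw [hcard]; exact hp.one_lt
  haveI : Nontrivial (P : Subgroup G) := Finite.one_lt_card_iff_nontrivial.mp h1
  obtain ⟨y₀, hy₀⟩ := exists_ne (1 : (P : Subgroup G))
  have hy₀1 : (y₀ : G) ≠ 1 := fun h => hy₀ (Subtype.ext h)
  obtain ⟨hmle, hmtrans⟩ := orbit_count (P : Subgroup G) p hcard hself hcent y₀ y₀.2 hy₀1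
  have hK : ∀ χ : IrrCharacter G, χ.1 ≠ (fun _ => 1) → ∀ c : ℂ,
      (∀ y ∈ (P : Subgroup G), y ≠ 1 → χ.1 y = c) →
        c = 0 ∨ (p = 3 ∧ charDegree χ.1 = 2 ∧ c = -1) :=
    fun χ hχ c hc => key_K hsimple hcenter χ hχ p hp (P : Subgroup G) hcard (hprime χ hχ)
      (hdeg ▸ hmax χ) c hc
  have hm0 : (Subgroup.centralizer ((P : Subgroup G) : Set G)).relIndex
      (Subgroup.normalizer ((P : Subgroup G) : Set G)) ≠ 0 := by
    show ((Subgroup.centralizer ((P : Subgroup G) : Set G)).subgroupOf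
      (Subgroup.normalizer ((P : Subgroup G) : Set G))).index ≠ 0
    exact Subgroup.index_ne_zero_of_finite
  have hp2 := hp.two_le
  rcases (show (Subgroup.centralizer ((P : Subgroup G) : Set G)).relIndex
      (Subgroup.normalizer ((P : Subgroup G) : Set G)) = 1 ∨
      (Subgroup.centralizer ((P : Subgroup G) : Set G)).relIndex
      (Subgroup.normalizer ((P : Subgroup G) : Set G)) = p - 1 ∨
      (1 < (Subgroup.centralizer ((P : Subgroup G) : Set G)).relIndex
      (Subgroup.normalizer ((P : Subgroup G) : Set G)) ∧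
      (Subgroup.centralizer ((P : Subgroup G) : Set G)).relIndex
      (Subgroup.normalizer ((P : Subgroup G) : Set G)) + 1 < p) by omega) with h1 | h1 | ⟨h1, h2⟩
  · exact false_of_normalizer_le hsimple hcenter p P hcard (Subgroup.relIndex_eq_one.mp h1)
  · exact false_of_trans p (P : Subgroup G) y₀ hy₀1 (hmtrans h1) hK
  · exact false_of_mid hsimple hcenter p P hcard hcomm hself hcent h1 h2 hK

end Cfsg.Agent.H59.PD
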