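import Cfsg.Agent.H42.SqDefs
import Cfsg.Agent.H59.SqCore
import Cfsg.Agent.H72.SqCommIf

/-!
# SQ-COMM (piece of S2945, for helper42): glue of helper72's interface half
(`Cfsg.Agent.H72.Sq.comm_of_core`) with the abstract core `Cfsg.Agent.H59.Sq.aut_commute`.
-/

set_option autoImplicit false
open Cfsg

namespace Cfsg.Agent.H59.Sq

universe u

/-- The abstract core in the closed form used by helper72's interface. -/
theorem autCore : Cfsg.Agent.H72.Sq.StAutCore.{u} := by
  intro E _ _ hE P hP x y hx hy hx3 hy3 hWx hWy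
  exact aut_commute hE P hP x y hx hy hx3 hy3 hWx hWy

/-- SQ-COMM. -/
theorem comm : Cfsg.Agent.H42.Sq.StComm.{u} := Cfsg.Agent.H72.Sq.comm_of_core autCore

example : Cfsg.Agent.H42.Sq.StComm.{u} := comm

end Cfsg.Agent.H59.Sq

#print axioms Cfsg.Agent.H59.Sq.comm
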